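import Cfsg.Agent.G4S.E2b

/-! The Sylow 2-subgroup. -/

set_option autoImplicit false
set_option synthInstance.maxSize 4000

namespace Cfsg.Agent.G4S

open Subgroup L4S P2 Equiv
open Equiv.Perm (sign)
open TT (Eqv XS)
open PLocal.Amb (IsSyl isPGroup_iff)

variable {G : Type*} [Group G] [Finite G] {A : Subgroup G} {ρ : P2 →* G} {ω η : WW →* G} {D : Subgroup G}
  {h n f y j k : G}

theorem rl_rr {π : Perm (Fin 8)} {p : F} (hp : p ≠ 0) (e : Rl π false (rr p) (rr p)) (q : F) :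
    Rl π false (rr q) (rr q) := by
  obtain ⟨h2, h3, h4⟩ := e.fix_r hp
  refine ⟨0, fun i => ?_⟩
  have k : ∀ l, π l = l → π i = l → i = l := fun l a b => π.injective (b.trans a.symm)
  exact (by decide : ∀ (q : F) (i l : Fin 8), (l = 2 → i = 2) → (l = 3 → i = 3) → (l = 4 → i = 4) → (i = 2 → l = 2) →
    (i = 3 → l = 3) → (i = 4 → l = 4) → tt l (rr q) = fs false (tt i (rr q)) + 0) q i _ (k _ h2) (k _ h3) (k _ h4)
      (fun e => e ▸ h2) (fun e => e ▸ h3) fun e => e ▸ h4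

namespace St4

variable (H : St4 A ρ ω η D h n f y j k)
include H

theorem rr_cj {p : F} (hp : p ≠ 0) : ∃ l ∈ NN ρ, l * ρ (rr p) * l⁻¹ = ρ (rr 1) := by
  obtain ⟨π, hπ, e⟩ := to_r (x := 0) (q := 0) (z := 0) (mul_zero p) (Or.inl hp)
  obtain ⟨l, -, m, e⟩ := H.mv_to hπ (by decide) e
  exact ⟨l, H.mem_NN.2 ⟨_, _, hπ, m⟩, e⟩

theorem rD' {p : F} (hp : p ≠ 0) : IsD A (ρ (rr p)) := let ⟨_, _, e⟩ := H.rr_cj hp; IsD.of_cj (e ▸ H.rD)

theorem toP {a : P2} (hD : IsD A (ρ a)) : ∃ l ∈ NN ρ, l * ρ a * l⁻¹ = ρ (rr 1) := by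
  have e2 : a * a = 1 := H.rinj (by rw [map_mul, hD.1, map_one])
  have zc : ∀ c, ¬ IsD A (ρ (zz c)) := fun c e => by
    cases c
    exacts [e.2.1 (map_one ρ), H.nD e, H.nD (by have := (e.cj h).cj h; rwa [H.hP, H.hP] at this),
      H.nD (by have := e.cj h; rwa [H.hP] at this)]
  rcases sing (congrArg P2.z ((sq_eq a).symm.trans e2)) with e | ⟨π, c, hπ, hc, e⟩ | ⟨π, hπ, e⟩ | ⟨π, hπ, e⟩
  · exact (zc _ (e ▸ hD)).elim
  · obtain ⟨l, -, -, e⟩ := H.mv_to hπ (fun e => hc (congrArg P2.x e)) e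
    have := (e ▸ hD.cj l).cj n
    rw [show x1 c = ⟨c, 0, 0, 0, 0, 0, 0⟩ from rfl, H.rw, H.nω, ← H.rw] at this
    exact (zc c (by simpa [zz] using this)).elim
  · obtain ⟨l, -, m, e⟩ := H.mv_to hπ (by decide) e
    exact ⟨l, H.mem_NN.2 ⟨_, _, hπ, m⟩, e⟩
  · obtain ⟨l, -, -, e⟩ := H.mv_to hπ (by decide) e
    exact (H.eD (e ▸ hD.cj l)).elim

theorem syl' {T : Subgroup G} (S : IsSyl 2 T (NN ρ)) : ρ.range ≤ T ∧ f ∈ T ∧ IsSyl 2 T ⊤ := by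
  have p4 : ∀ u, ρ u ^ 2 ^ 2 = 1 := fun u => by rw [← map_pow]; exact (congrArg ρ (pow4 u)).trans ρ.map_one
  have PT : ρ.range ≤ T := S.le_of_le_normalizer (isPGroup_iff.2 (by rintro _ ⟨u, rfl⟩; exact ⟨2, p4 u⟩))
    (by rintro _ ⟨u, rfl⟩; exact H.mem_NN.2 ⟨_, _, Perm.sign_one, mv_inn ρ u⟩) (S.le.trans inf_le_left)
  have tm : ∀ t ∈ T, ∃ π σ, sign π = 1 ∧ Mv ρ t π σ := fun t ht => H.mem_NN.1 (S.le ht)
  have fT : f ∈ T := S.le_of_le_normalizer (R := QQ ρ f) (IsPGroup.of_card (n := 9) H.card) H.QN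
    (fun t ht => let ⟨_, _, _, a⟩ := tm t ht; (H.nq a).1) H.fQ
  have t2 := isPGroup_iff.1 S.pgrp
  have hz : ∀ x ∈ normalizer (T : Set G), x * ρ (zz 1) * x⁻¹ = ρ (zz 1) := fun x hn => by
    have m := nor_cjA hn (PT ⟨zz 1, rfl⟩)
    have c : ∀ t ∈ T, Commute (x * ρ (zz 1) * x⁻¹) t := fun t ht => comm_cj'' (by
      obtain ⟨_, _, -, a⟩ := tm _ (by simpa using nor_cjA (inv_mem hn) ht)
      exact a.comm.symm)
    rcases H.xs.cent _ (H.chq (mv_of_comm fun u => c _ (PT ⟨u, rfl⟩)) (t2 _ m) fun i _ =>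
      Or.inl (cj_of_comm (c _ (PT ⟨_, rfl⟩)))) (fun x hx => by
        obtain ⟨u, -, rfl | rfl⟩ := H.memQ.1 hx
        exacts [c _ (PT ⟨u, rfl⟩), c _ (mul_mem fT (PT ⟨u, rfl⟩))]) with k | k
    exacts [absurd (by simpa using k) H.z_ne, k]
  have hw : ∀ x ∈ normalizer (T : Set G), ∃ c, x * ρ (zz F.w) * x⁻¹ = ρ (zz c) := fun x hn => by
    have m := nor_cjA hn (PT ⟨zz F.w, rfl⟩)
    have c : ∀ u, Eqv (ρ (zz 1)) (x * ρ (zz F.w) * x⁻¹ * ρ u * (x * ρ (zz F.w) * x⁻¹)⁻¹) (ρ u) := fun u => by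
      obtain ⟨_, _, -, a⟩ := tm _ m
      refine E2.eqv_symm (z2 ρ 1) (mv_inn ρ u).comm a.comm ?_
      obtain ⟨_, σ, -, a⟩ := tm _ (nor_cjA (inv_mem hn) (PT ⟨u, rfl⟩))
      have : Eqv (ρ (zz 1)) _ _ := a.1 F.w ▸ (by
        cases σ
        exacts [Or.inl rfl, Or.inr (by rw [← map_mul]; rfl)] : Eqv (ρ (zz 1)) (ρ (zz (fs σ F.w))) (ρ (zz F.w)))
      simpa [mul_assoc] using this.conj (comm_of_cj (hz x hn))
    obtain ⟨π, σ, -, a⟩ := tm _ m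
    obtain ⟨u, hu, e | e⟩ := H.memQ.1 (H.chq a (t2 _ m) fun i _ => c _) <;> rw [e] at c ⊢
    · refine ⟨u.z, congrArg ρ (by_contra fun k => ?_)⟩
      obtain ⟨b, e⟩ := bf_surj k F.w
      have := H.of_eqv (rcj ρ u b ▸ c b)
      rw [show bf u b = bf b u by simp only [bf]; ring, e] at this
      exact absurd this (by decide)
    · obtain ⟨u', e1, e2⟩ := (H.mv_fr u).2 (x1 F.w)
      have := e2.one 1
      rcases c (x1 F.w) with k | k <;> rw [e1] at k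
      · exact absurd (H.rinj k ▸ this) (by decide)
      · exact absurd (H.rinj (k.trans (map_mul _ _ _).symm) ▸ this) (by decide)
  have hZ : ∀ x ∈ normalizer (T : Set G), ∀ c, ∃ c', x * ρ (zz c) * x⁻¹ = ρ (zz c') := fun x hn c => by
    obtain ⟨c', e⟩ := hw x hn
    cases c
    exacts [⟨0, cj_of_comm (show Commute x (ρ 1) by simp)⟩, ⟨1, hz x hn⟩, ⟨c', e⟩,
      ⟨1 + c', by rw [← zz_mul, map_mul, ← e, ← hz x hn, conj_mul, ← map_mul]; rfl⟩]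
  have k : ∀ x ∈ normalizer (T : Set G), ∀ u, ∃ π, sign π = 1 ∧ Mv ρ (x * ρ u * x⁻¹) π false := fun x hn u => by
    obtain ⟨π, σ, s, a⟩ := tm _ (nor_cjA hn (PT ⟨u, rfl⟩))
    obtain ⟨c, e⟩ := hZ _ (inv_mem hn) F.w
    rw [inv_inv] at e
    exact ⟨π, s, a.cen H.rinj (comm_cj'' (e ▸ pz ρ u c)) ▸ a⟩
  refine ⟨PT, fT, PLocal.Amb.isSyl_of_isSyl_normalizer (S.mono (le_inf le_top le_normalizer) fun x hn => ?_)⟩
  have cz := comm_of_cj (hz x hn.2)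
  refine ⟨?_, mem_centralizer_singleton_iff.2 cz⟩
  choose θ s hθ using fun p => k x hn.2 (rr p)
  have sw {a b : G} {c : F} (ha : Commute a (ρ (zz c))) (hb : Commute b (ρ (zz c))) (e : a * b * a⁻¹ = b * ρ (zz c)) :
      b * a * b⁻¹ = a * ρ (zz c) := by
    rw [mul_inv_eq_iff_eq_mul] at e ⊢
    rw [mul_assoc, ← hb.eq, ← mul_assoc, e, mul_assoc _ a, ha.eq, mul_assoc b, ← mul_assoc (ρ _), z2, one_mul]
  have un {π σ a b c} (e : Rl π σ a (b * zz c)) : Rl π σ a b := by simpa [mul_assoc, zz_mul, zz_zero] using e.zr c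
  have fx {p} (hp : p ≠ 0) q : θ q = 1 ∨ θ q = θ p := fix_sub (s p) (((hθ p).mul (hθ p)).uniq H.rinj (by
    rw [conj_mul, ← map_mul, show rr p * rr p = 1 by simp [rr, P2.mul_def, P2.one_def]]
    simpa using mv_inn ρ 1)).1 (s q) fun a e => by
      obtain ⟨τ, -, m⟩ := k _ (inv_mem hn.2) a
      obtain ⟨c, e1⟩ := (hθ p).to e
      obtain ⟨c1, e2⟩ := hZ _ (inv_mem hn.2) c
      have e3 := congrArg (x⁻¹ * · * x⁻¹⁻¹) (sw (comm_of_cj ((hθ p).1 c)) (pz ρ a c) (e1.trans (map_mul _ _ _)))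
      obtain ⟨c2, e4⟩ := m.to (rl_rr hp (un (c := c1) (m.rl H.rinj (by
        rw [map_mul, ← e2]; simpa [mul_assoc] using e3))) q)
      obtain ⟨c3, e5⟩ := hZ _ hn.2 c2
      have e6 := congrArg (x * · * x⁻¹) (sw (comm_of_cj (m.1 c2)) (pz ρ _ c2) (e4.trans (map_mul _ _ _)))
      refine un (c := c3) ((hθ q).rl H.rinj ?_)
      rw [map_mul, ← e5]
      simpa [mul_assoc] using e6
  obtain ⟨p, hp, e⟩ : ∃ p, p ≠ 0 ∧ θ p = 1 := by
    rcases fx one_ne_zero F.w with e | e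
    · exact ⟨_, by decide, e⟩
    refine ⟨F.v, by decide, ((hθ _).uniq (σ' := false) H.rinj ?_).1⟩
    have := ((hθ 1).inv H.rinj).mul (hθ F.w)
    rwa [e, inv_mul_cancel, conj_inv, conj_mul, ← map_inv, ← map_mul, show (rr 1)⁻¹ * rr F.w = rr F.v from rfl,
      Bool.xor_self] at this
  obtain ⟨b, e1⟩ := H.ker2 (e ▸ hθ p) ⟨2, by rw [conj_pow, p4]; simp⟩
  obtain ⟨l, hl, e2⟩ := H.toP (e1 ▸ (H.rD' hp).cj x)
  obtain ⟨l', hl', e3⟩ := H.rr_cj hp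
  have := H.cr (l * x * l'⁻¹) (comm_of_cj (by
    rw [cj_mul, cj_mul, show l'⁻¹ * ρ (rr 1) * l'⁻¹⁻¹ = ρ (rr p) by rw [← e3]; group, e1, e2]))
    ((Commute.mul_left (mem_centralizer_singleton_iff.1 hl.2) cz).mul_left
      (Commute.inv_left (mem_centralizer_singleton_iff.1 hl'.2)))
  exact (mul_mem_cancel_left (mem_inf.1 hl).1).1 ((mul_mem_cancel_right (inv_mem (mem_inf.1 hl').1)).1 this)

end St4

theorem St4.exists_st5 (H : St4 A ρ ω η D h n f y j k) : ∃ T, St5 A ρ ω η D h n f y j k T := by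
  obtain ⟨T, S⟩ := PLocal.Amb.exists_isSyl 2 (NN ρ)
  obtain ⟨PT, fT, S'⟩ := H.syl' S
  have key : ∀ c, c * ρ (rr 1) * c⁻¹ ∈ T → ∃ l ∈ HH ρ f D, Commute (l * c) (ρ (rr 1)) := fun c hc =>
    let ⟨l, hl, e⟩ := H.inv3 (S.le hc) (H.rD.cj c); ⟨l, hl, comm_of_cj ((cj_mul _ _ _).trans e)⟩
  refine ⟨T, H, S.pgrp, by simpa using S'.not_dvd_relIndex, S.le, PT, fT, fun c cz hc => ?_, fun e => ?_⟩
  · obtain ⟨l, hl, e⟩ := key c hc
    have kz : Commute (l * c) (ρ (zz 1)) := Commute.mul_left (mem_centralizer_singleton_iff.1 hl.2) cz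
    obtain ⟨_, _, -, b⟩ := H.mv _ (H.cr _ e kz) kz
    exact (Subgroup.mul_mem_cancel_left _ hl.1.1).1 (H.nq b).1
  · obtain ⟨g, e⟩ := isConj_iff.1 e.symm
    obtain ⟨m, hm, e1⟩ := (S'.mono (S.le.trans inf_le_right) le_top).exists_cj_le (R := zpowers (g * ρ (rr 1) * g⁻¹))
      (PLocal.Amb.isPGroup_zpowers ⟨1, (sq _).trans (H.rD.cj g).1⟩) (zpowers_le.2 (mem_centralizer_singleton_iff.2
        (e ▸ comm_cj (Commute.map (show rr 1 * e0 = e0 * rr 1 by decide : Commute (rr 1) e0) ρ) g)))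
    obtain ⟨l, hl, e2⟩ := key (m * g) (cj_mul m g _ ▸ e1 (PLocal.Amb.conj_mem_cj m (mem_zpowers _)))
    exact H.ez _ e2 (by
      rw [cj_mul, cj_mul, e, cj_of_comm (mem_centralizer_singleton_iff.1 hm),
        cj_of_comm (mem_centralizer_singleton_iff.1 hl.2)])

end Cfsg.Agent.G4S
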