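import Cfsg.Agent.L4S.E1b
import Cfsg.Agent.PLocal.AmbSyl

/-! Standard subgroups `G₂(4)`: configurations. `ψ ⟨x,y,u,v,z⟩ = x₅(y) x₁(x) x₃(z) x₂(u) x₄(v)` parametrises
`Q = 2^{2+8}`, `η ⟨p,q,t,x,z⟩ = x₂(p) x₄(q) x₀(t) x₁(x) x₃(z)` parametrises `2^{4+6}`. -/

set_option autoImplicit false

namespace Cfsg.Agent.G4S

open Subgroup L4S L4S.PP
open F (fr)
open PLocal.Amb (IsSyl)

variable {G : Type*} [Group G]

/-- long root elements -/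
def Lg (A : Subgroup G) (ψ : PP →* G) (a : G) : Prop := ∃ b ∈ A, a = b * ψ (zz 1) * b⁻¹

/-- the centraliser of a long root element -/
abbrev MZ (A : Subgroup G) (ψ : PP →* G) : Subgroup G := A ⊓ centralizer {ψ (zz 1)}

/-- a Sylow 2-subgroup of `A` -/
abbrev UU (ψ : PP →* G) (η : WW →* G) : Subgroup G := ψ.range ⊔ η.range

/-- acts on `Q` as the field automorphism -/
def Fl (ψ : PP →* G) (φ : G) : Prop := ∀ u, φ * ψ u * φ⁻¹ = ψ ⟨fr u.x, fr u.y, fr u.p, fr u.q, fr u.z⟩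

/-- `A ≅ G₂(4)` is standard; `ν` is the map of `N(A)` to the outer automorphism group -/
structure Cfg (A : Subgroup G) (ψ : PP →* G) (η : WW →* G) (ν : G → Bool) (h n m : G) : Prop where
  inj : Function.Injective ψ
  jnj : Function.Injective η
  mem : ∀ u, ψ u ∈ A
  memη : ∀ w, η w ∈ A
  ηψ : ∀ p q x z, η ⟨p, q, 0, x, z⟩ = ψ ⟨x, 0, p, q, z⟩
  xi : ∀ t x y u v z, ∃ z', η ⟨0, 0, t, 0, 0⟩ * ψ ⟨x, y, u, v, z⟩ * (η ⟨0, 0, t, 0, 0⟩)⁻¹ =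
    ψ ⟨x + t * t * t * y + t * t * v + t * u, y, u + t * t * y, v + t * y, z'⟩
  mA : m ∈ A
  msq : m * m = 1
  mact : ∀ x y u v z, m * ψ ⟨x, y, u, v, z⟩ * m⁻¹ = ψ ⟨y, x, v, u, z + x * y + u * v⟩
  nA : n ∈ A
  nsq : n * n = 1
  nact : ∀ p q t x z, n * η ⟨p, q, t, x, z⟩ * n⁻¹ = η ⟨p, t, q, z + q * q * t, x + q * t * t⟩
  hA : h ∈ A
  h3 : h ^ 3 = 1
  hact : ∀ x y u v z, h * ψ ⟨x, y, u, v, z⟩ * h⁻¹ = ψ ⟨F.v * x, F.v * y, F.v * u, F.v * v, F.w * z⟩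
  hξ : ∀ t, Commute h (η ⟨0, 0, t, 0, 0⟩)
  hm : Commute h m
  nh : Commute (n * h * n⁻¹ * h) (ψ (zz 1))
  cz : ∀ a ∈ A, ∀ c, c ≠ 0 → Commute a (ψ (zz c)) → ∀ d, Commute a (ψ (zz d))
  genZ : ∀ X : Subgroup G, ψ.range ≤ X → (∀ t, η ⟨0, 0, t, 0, 0⟩ ∈ X) → m ∈ X → MZ A ψ ≤ X
  gen : ∀ X : Subgroup G, MZ A ψ ≤ X → n ∈ X → A ≤ X
  perf : ⁅MZ A ψ, MZ A ψ⁆ = MZ A ψ
  oQ : ∀ X ≤ MZ A ψ, MZ A ψ ≤ normalizer (X : Set G) → IsPGroup 2 X → X ≤ ψ.range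
  cA : ∀ a ∈ A, (∀ u, Commute a (ψ u)) → ∃ c, a = ψ (zz c)
  cenV : ∀ a ∈ A, a * a = 1 → (∀ x z, Commute a (ψ ⟨x, 0, 0, 0, z⟩)) → a ∈ η.range
  cls : ∀ a ∈ A, a * a = 1 → a ≠ 1 → Lg A ψ a ∨ ∃ b ∈ A, a = b * ψ ⟨0, 0, 1, 0, 0⟩ * b⁻¹
  syl : IsSyl 2 (UU ψ η) A
  numul : ∀ a ∈ normalizer (A : Set G), ∀ b ∈ normalizer (A : Set G), ν (a * b) = xor (ν a) (ν b)
  nuF : ∀ x ∈ normalizer (A : Set G), ν x = false → ∃ a ∈ A, a⁻¹ * x ∈ centralizer (A : Set G)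
  nuT : ∀ x ∈ normalizer (A : Set G), ν x = true → ∃ a ∈ A, Fl ψ (a⁻¹ * x)
  simple : IsSimpleGroup A
  te : ∀ t ∈ centralizer (A : Set G), t * t = 1 → t ≠ 1 → ∀ g, g * t * g⁻¹ ∈ centralizer (A : Set G) →
    g ∈ normalizer (A : Set G)
  nc : ∀ g, (∀ a ∈ A, g * a * g⁻¹ ∈ centralizer (A : Set G)) → False
  ex : ∃ t ∈ centralizer (A : Set G), t * t = 1 ∧ t ≠ 1

/-- the ambient simple normal subgroup -/
structure Am (A E : Subgroup G) : Prop where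
  nE : E.Normal
  sE : IsSimpleGroup E
  AE : A ≤ E
  nn : ¬ A.Normal
  cE : centralizer (E : Set G) = ⊥

/-- `R = {r p}` is a Sylow 2-subgroup of `C(A)` and `g` moves it to the graph `{r p * z p}` -/
structure St1 (A : Subgroup G) (ψ : PP →* G) (η : WW →* G) (ν : G → Bool) (h n m : G) (r : F → G) (g : G) : Prop
    extends Cfg A ψ η ν h n m where
  radd : ∀ p q, r (p + q) = r p * r q
  rK : ∀ p, r p ∈ centralizer (A : Set G)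
  rne : ∀ p, p ≠ 0 → r p ≠ 1
  rcen : ∀ k ∈ centralizer (A : Set G), (∃ i, k ^ 2 ^ i = 1) → (∀ p, Commute k (r p)) → ∃ p, k = r p
  rsyl : ∀ P : Subgroup G, IsPGroup 2 P → P ≤ centralizer (A : Set G) →
    ∃ k ∈ centralizer (A : Set G), ∀ x ∈ P, ∃ p, k * x * k⁻¹ = r p
  nD : ¬ IsD A (ψ (zz 1))
  gM : g ∉ normalizer (A : Set G)
  gz : Commute g (ψ (zz 1))
  gN : g ∈ normalizer (MZ A ψ : Set G)
  gr : ∀ p, ∃ q, g * r q * g⁻¹ = r p * ψ (zz p)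
  gr' : ∀ q, ∃ p, g * r q * g⁻¹ = r p * ψ (zz p)
  ck : ∀ k ∈ centralizer (A : Set G), ∀ p, p ≠ 0 → Commute k (r p) →
    ∃ q, g⁻¹ * (r q * k) * g ∈ centralizer (A : Set G)

/-- the elements `s q` translate `R` inside `R Z`; `n * s t * n⁻¹` and `s q` translate it inside `R V` -/
structure St2 (A : Subgroup G) (ψ : PP →* G) (η : WW →* G) (ν : G → Bool) (h n m : G) (r : F → G) (g : G)
    (D : Subgroup G) (s : F → G) (κ : F) : Prop extends St1 A ψ η ν h n m r g where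
  memD : ∀ d, d ∈ D ↔ d ∈ centralizer (A : Set G) ∧ (∀ p, Commute d (r p)) ∧ Odd (orderOf d)
  cD : ∀ k ∈ centralizer (A : Set G), (∀ p, Commute k (r p)) → ∃ p, r p * k ∈ D
  sadd : ∀ p q, s (p + q) = s p * s q
  sM : ∀ q, ∀ a ∈ MZ A ψ, Commute (s q) a
  sD : ∀ q, ∀ d ∈ D, Commute (s q) d
  rs : ∀ p q, r p * s q * (r p)⁻¹ = s q * ψ (zz (p * q))
  hs : ∀ q, h * s q * h⁻¹ = s (F.w * q)
  as1 : ∀ t q, n * s t * n⁻¹ * s q * (n * s t * n⁻¹)⁻¹ = s q * ψ ⟨κ * t * t * q, 0, 0, 0, κ * t * q * q⟩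
  ya1 : ∀ y t, ∃ x z, ψ ⟨0, y, 0, 0, 0⟩ * (n * s t * n⁻¹) * (ψ ⟨0, y, 0, 0, 0⟩)⁻¹ =
    n * s t * n⁻¹ * s (y * t) * r (κ * y * t * t) * ψ ⟨x, 0, 0, 0, z⟩

end Cfsg.Agent.G4S
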