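import Cfsg.Agent.G4S.EDefs

/-! Finite facts on `P2` and `A₈`. -/

set_option autoImplicit false
set_option synthInstance.maxSize 4000
set_option maxRecDepth 100000
set_option linter.constructorNameAsVariable false

namespace Cfsg.Agent.G4S

open Subgroup L4S Equiv P2
open Equiv.Perm (sign)

variable {π π' : Perm (Fin 8)} {σ : Bool} {a b : P2}

theorem Rl.of_q0 (h : Rl π σ a b) (ha : a ∈ Q0) : Rl π false a b :=
  let ⟨c, e⟩ := h
  ⟨c, fun i => by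
    rw [e]; rcases mem_Q0.1 ha i with k | k <;> rw [k] <;> simp only [fs_zero, fs_one]⟩

theorem pab_sq (s t : F) : pa s * pb t * (pa s * pb t) = 1 := by revert s t; decide

theorem pab_one {s t : F} (h : pa s * pb t = 1) : s = 0 ∧ t = 0 := by revert s t; decide

theorem pa_y {s t : F} (hs : s ≠ 0) (h : Rl (pa s * pb t) false a a) : a.y = 0 := by
  obtain ⟨c, e⟩ := h
  have k : a.y = tt 1 a + tt 2 a + tt 3 a + tt 4 a := by
    obtain ⟨x, y, p, q, u, v, z⟩ := a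
    exact (by decide +kernel : ∀ x y p q : F,
      y = x + (x + y + p + q) + (x + y + p * F.v + q * F.w) + (x + y + p * F.w + q * F.v)) x y p q
  have l : ∀ a b c d k : F, (b = a + k ∧ d = c + k ∨ d = a + k ∧ c = b + k ∨ c = a + k ∧ d = b + k) →
    a + b + c + d = 0 := by decide +kernel
  refine k.trans (l _ _ _ _ c ?_)
  cases s
  · exact absurd rfl hs
  · exact Or.inl (by cases t <;> exact ⟨e 1, e 3⟩)
  · exact Or.inr (Or.inl (by cases t <;> exact ⟨e 1, e 2⟩))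
  · exact Or.inr (Or.inr (by cases t <;> exact ⟨e 1, e 2⟩))

namespace P2

theorem card_Q0 : Nat.card Q0 = 256 := by
  rw [Nat.card_eq_fintype_card, Fintype.card_subtype]; decide +kernel

theorem bf_mem (ha : a ∈ Q0) (hb : b ∈ Q0) : bf a b = 0 ∨ bf a b = 1 := by
  obtain ⟨a1, a2, a3, a4⟩ := ha
  obtain ⟨b1, b2, b3, b4⟩ := hb
  simp only [bf, a3, a4, b3, b4]
  exact (by decide +kernel : ∀ x y x' y' : F, x = 0 ∨ x = 1 → y = 0 ∨ y = 1 → x' = 0 ∨ x' = 1 → y' = 0 ∨ y' = 1 →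
    ∀ p u p' u' : F, x * y' + y * x' + p * (p' * p') + p * p * p' + u * (u' * u') + u * u * u' = 0 ∨
      x * y' + y * x' + p * (p' * p') + p * p * p' + u * (u' * u') + u * u * u' = 1) _ _ _ _ a1 a2 b1 b2 _ _ _ _

theorem tr2 : ∀ p q : F, (∀ t : F, p * (t * t) + q * t = 0 ∨ p * (t * t) + q * t = 1) → q = p * p := by decide

theorem mem_of_bf (h : ∀ b ∈ Q0, bf a b = 0 ∨ bf a b = 1) : a ∈ Q0 :=
  ⟨by simpa [bf] using h ⟨0, 1, 0, 0, 0, 0, 0⟩ (by decide), by simpa [bf] using h ⟨1, 0, 0, 0, 0, 0, 0⟩ (by decide),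
    tr2 _ _ fun t => by simpa [bf] using h ⟨0, 0, t, t * t, 0, 0, 0⟩ (by simp [mem_Q0']),
    tr2 _ _ fun t => by simpa [bf] using h ⟨0, 0, 0, 0, t, t * t, 0⟩ (by simp [mem_Q0'])⟩

theorem mem_of_bf' (e : qf a = 0) (h : ∀ b ∈ Q0, b.y = 0 → bf a b = 0 ∨ bf a b = 1) : a ∈ Q0 ∨ a.y = 0 := by
  have h2 : a.y = 0 ∨ a.y = 1 := by simpa [bf] using h ⟨1, 0, 0, 0, 0, 0, 0⟩ (by decide) rfl
  have h3 := tr2 a.p a.q fun t => by simpa [bf] using h ⟨0, 0, t, t * t, 0, 0, 0⟩ (by simp [mem_Q0']) rfl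
  have h4 := tr2 a.u a.v fun t => by simpa [bf] using h ⟨0, 0, 0, 0, t, t * t, 0⟩ (by simp [mem_Q0']) rfl
  refine h2.elim Or.inr fun k => Or.inl ⟨?_, h2, h3, h4⟩
  rw [qf, h3, h4, k] at e
  exact (by decide : ∀ x p u : F, x * 1 + p * (p * p) + u * (u * u) = 0 → x = 0 ∨ x = 1) _ _ _ e

theorem cen_of_bf (h : ∀ b ∈ Q0, bf a b = 0) : a = zz a.z := by
  have k : ∀ p q : F, (∀ t : F, p * (t * t) + q * t = 0) → p = 0 ∧ q = 0 := by decide
  have h3 := k a.p a.q fun t => by simpa [bf] using h ⟨0, 0, t, t * t, 0, 0, 0⟩ (by simp [mem_Q0'])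
  have h4 := k a.u a.v fun t => by simpa [bf] using h ⟨0, 0, 0, 0, t, t * t, 0⟩ (by simp [mem_Q0'])
  exact P2.ext (by simpa [bf, zz] using h ⟨0, 1, 0, 0, 0, 0, 0⟩ (by decide))
    (by simpa [bf, zz] using h ⟨1, 0, 0, 0, 0, 0, 0⟩ (by decide)) h3.1 h3.2 h4.1 h4.2 rfl

theorem q0_two (ha : a ∈ Q0) : ∃ b ∈ Q0, ∃ c ∈ Q0, qf b = 0 ∧ qf c = 0 ∧ a = b * c := by
  obtain ⟨x, y, p, q, u, v, z⟩ := a
  obtain ⟨a1, a2, rfl, rfl⟩ : _ ∧ _ ∧ q = p * p ∧ v = u * u := ha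
  obtain ⟨x', y', p', u', h1, h2, h3, h4⟩ := (by decide +kernel : ∀ x y p u : F, x = 0 ∨ x = 1 → y = 0 ∨ y = 1 →
    ∃ x' y' p' u' : F, (x' = 0 ∨ x' = 1) ∧ (y' = 0 ∨ y' = 1) ∧ qf ⟨x', y', p', p' * p', u', u' * u', 0⟩ = 0 ∧
      qf ((⟨x', y', p', p' * p', u', u' * u', 0⟩ : P2)⁻¹ * ⟨x, y, p, p * p, u, u * u, 0⟩) = 0) x y p u a1 a2
  have hb : (⟨x', y', p', p' * p', u', u' * u', 0⟩ : P2) ∈ Q0 := ⟨h1, h2, rfl, rfl⟩
  exact ⟨_, hb, _, mul_mem (inv_mem hb) (show _ ∈ Q0 from ⟨a1, a2, rfl, rfl⟩), h3, h4, (mul_inv_cancel_left _ _).symm⟩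

theorem kill (ha : a ∈ Q0) (e : a * a = zz 1) : (∃ p, bf p a = F.w) ∧ ∃ p, bf p a = 0 ∧ ∃ v, bf v a = 0 ∧
    (∀ i, tt i v = fs true (tt i p) + tt i p) ∧ (∃ i, tt i v ≠ 0) ∧ ∃ i, tt i v ≠ tt i a := by
  have e' : qf a = 1 := zz_inj ((sq_eq a).symm.trans e)
  refine ⟨bf_surj (fun k => by rw [k] at e'; exact absurd e' (by simp [qf, zz])) _, ?_⟩
  obtain ⟨x, y, p, q, u, v, z⟩ := a
  obtain ⟨a1, a2, rfl, rfl⟩ : _ ∧ _ ∧ q = p * p ∧ v = u * u := ha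
  obtain ⟨x', y', p', u', h1, h2, h3, h4⟩ := (by decide +kernel : ∀ x y p u : F, x = 0 ∨ x = 1 → y = 0 ∨ y = 1 →
    ∃ x' y' p' u' : F, (x' = 0 ∨ x' = 1) ∧ (y' = 0 ∨ y' = 1) ∧
      bf ⟨x', y', p', p' * p', u', u' * u', 0⟩ ⟨x, y, p, p * p, u, u * u, 0⟩ = 0 ∧
      (∃ i, tt i ⟨x', y', p', p' * p', u', u' * u', 0⟩ ≠ 0) ∧
      ∃ i, tt i ⟨x', y', p', p' * p', u', u' * u', 0⟩ ≠ tt i ⟨x, y, p, p * p, u, u * u, 0⟩) x y p u a1 a2
  have hb : (⟨x', y', p', p' * p', u', u' * u', 0⟩ : P2) ∈ Q0 := ⟨h1, h2, rfl, rfl⟩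
  refine ⟨⟨F.w * x', F.w * y', F.w * p', F.w * (p' * p'), F.w * u', F.w * (u' * u'), 0⟩, ?_, _, h3, fun i => ?_, h4.1,
    h4.2.imp fun i k => by rwa [← tt_z i ⟨x, y, p, _, u, _, z⟩ 0]⟩
  · rw [← mul_zero F.w, ← h3]; simp only [bf]; ring
  · rw [show tt i ⟨F.w * x', F.w * y', F.w * p', F.w * (p' * p'), F.w * u', F.w * (u' * u'), 0⟩ =
      F.w * tt i ⟨x', y', p', p' * p', u', u' * u', 0⟩ by fin_cases i <;> simp only [tt] <;> ring]
    rcases mem_Q0.1 hb i with e | e <;> rw [e] <;> rfl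

theorem q0_h (a : P2) : ∃ b ∈ Q0, ∃ c ∈ Q0,
    a = b * ⟨F.v * c.x, F.v * c.y, c.p, F.w * c.q, F.v * c.u, F.v * c.v, F.w * c.z⟩ := by
  have k1 : ∀ x : F, ∃ s : F, (s = 0 ∨ s = 1) ∧ (x + F.v * s = 0 ∨ x + F.v * s = 1) := by decide
  have k2 : ∀ p q : F, ∃ s : F, q + F.w * (s * s) = (p + s) * (p + s) := by decide
  have k3 : ∀ p q : F, ∃ s : F, q + F.v * (s * s) = (p + F.v * s) * (p + F.v * s) := by decide
  obtain ⟨x, x1, x2⟩ := k1 a.x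
  obtain ⟨y, y1, y2⟩ := k1 a.y
  obtain ⟨p, p1⟩ := k2 a.p a.q
  obtain ⟨u, u1⟩ := k3 a.u a.v
  exact ⟨_, (⟨x2, y2, p1, u1⟩ : a * _⁻¹ ∈ Q0), ⟨x, y, p, p * p, u, u * u, 0⟩, ⟨x1, y1, rfl, rfl⟩,
    (inv_mul_cancel_right _ _).symm⟩

theorem card_inv : Nat.card {a : P2 // a ∈ Q0 ∧ a * a = 1 ∧ a ≠ 1 ∧ a ≠ zz 1} = 142 := by
  rw [Nat.card_eq_fintype_card, Fintype.card_subtype]; decide +kernel

end P2

theorem a8_gen {X : Subgroup (Perm (Fin 8))} (ha : ∀ t, pa t ∈ X) (hb : ∀ t, pb t ∈ X)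
    (hm : swap 0 1 * swap 6 7 ∈ X) (hπ : sign π = 1) : π ∈ X := by
  have k : ∀ t, pa t * (swap 0 1 * swap 6 7) * pa t * (swap 0 1 * swap 6 7) ∈ X := fun t =>
    mul_mem (mul_mem (mul_mem (ha t) hm) (ha t)) hm
  have k' : ∀ s t, swap 0 1 * swap 6 7 * pb s * (swap 0 1 * swap 6 7) * pb t ∈ X := fun s t =>
    mul_mem (mul_mem (mul_mem hm (hb s)) hm) (hb t)
  have m : ∀ {a b : Perm (Fin 8)}, a ∈ X → a = b → b ∈ X := fun h e => e ▸ h
  have h0 : ∀ i : Fin 8, i ≠ 0 → swap 0 i * swap 0 1 ∈ X := fun i hi => by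
    fin_cases i
    exacts [absurd rfl hi, m (one_mem X) (by decide), m (k 1) (by decide), m (k F.v) (by decide),
      m (k F.w) (by decide), m (mul_mem (hb 1) hm) (by decide), m (k' F.w F.v) (by decide),
      m (k' F.v F.w) (by decide)]
  have h1 : ∀ i j : Fin 8, i ≠ j → swap i j * swap 0 1 ∈ X := fun i j hij => by
    by_cases hi : i = 0
    · exact hi ▸ h0 j (hi ▸ hij.symm)
    by_cases hj : j = 0
    · rw [hj, swap_comm]; exact h0 i hi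
    exact m (mul_mem (mul_mem (h0 i hi) (inv_mem (h0 j hj))) (h0 i hi)) ((by decide +kernel : ∀ i j : Fin 8,
      i ≠ 0 → j ≠ 0 → i ≠ j → swap 0 i * swap 0 1 * (swap 0 j * swap 0 1)⁻¹ * (swap 0 i * swap 0 1) =
        swap i j * swap 0 1) i j hi hj hij)
  have : π ∈ X ∧ sign π = 1 ∨ swap 0 1 * π ∈ X ∧ sign π = -1 := by
    refine Perm.swap_induction_on π (Or.inl ⟨one_mem X, map_one _⟩) fun f x y hxy hf => ?_
    rcases hf with ⟨h2, h3⟩ | ⟨h2, h3⟩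
    · refine Or.inr ⟨?_, by rw [map_mul, Perm.sign_swap hxy, h3, mul_one]⟩
      simpa [mul_assoc] using mul_mem (inv_mem (h1 x y hxy)) h2
    · refine Or.inl ⟨?_, by rw [map_mul, Perm.sign_swap hxy, h3]; rfl⟩
      simpa [mul_assoc] using mul_mem (h1 x y hxy) h2
  exact this.elim (·.1) fun h => absurd (hπ.symm.trans h.2) (by decide)

theorem rl_of_count {c : F} {i j : Fin 8} (hij : i ≠ j) (e : tt i b = tt j b)
    (h : ∀ k, (Finset.univ.filter fun l => tt l b = k).card = (Finset.univ.filter fun l => tt l a + c = k).card) :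
    ∃ π, sign π = 1 ∧ Rl π false a b := by
  let τ : Perm (Fin 8) := Equiv.ofFiberEquiv (f := fun l => tt l a + c) (g := fun l => tt l b) fun k =>
    Fintype.equivOfCardEq (by rw [Fintype.card_subtype, Fintype.card_subtype, h])
  have hτ : ∀ l, tt (τ l) b = tt l a + c := fun l =>
    Equiv.ofFiberEquiv_map (f := fun l => tt l a + c) (g := fun l => tt l b) _ l
  rcases Int.units_eq_one_or (sign τ) with s | s
  · exact ⟨τ, s, c, hτ⟩
  · exact ⟨swap i j * τ, by rw [map_mul, Perm.sign_swap hij, s]; rfl, c, fun l =>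
      (Equiv.apply_swap_eq_self (v := fun l => tt l b) e (τ l)).trans (hτ l)⟩

/-- the number of coordinates with a given value -/
def cnt8 (a : P2) (c k : F) : ℕ := (List.finRange 8).countP fun l => tt l a + c = k

/-- equal multiplicities modulo constants -/
def Cnt8 (a b : P2) : Prop := ∃ c, ∀ k, cnt8 b 0 k = cnt8 a c k

instance (a b : P2) : Decidable (Cnt8 a b) := by unfold Cnt8; infer_instance

theorem cnt8_eq (a : P2) (c k : F) : cnt8 a c k = (Finset.univ.filter fun l => tt l a + c = k).card := by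
  rw [cnt8, Fin.univ_def, List.countP_eq_length_filter]; rfl

theorem Cnt8.rl {i j : Fin 8} (hij : i ≠ j) (e : tt i b = tt j b) (h : Cnt8 ⟨a.x, a.y, a.p, a.q, a.u, a.v, 0⟩ b) :
    ∃ π, sign π = 1 ∧ Rl π false a b :=
  let ⟨c, k⟩ := h
  rl_of_count (c := c) hij e fun l => by simpa only [cnt8_eq, add_zero, tt_z] using k l

theorem Cnt8.x {c : F} (h : Cnt8 ⟨a.x, a.y, a.p, a.q, a.u, a.v, 0⟩ (x1 c)) : ∃ π, sign π = 1 ∧ Rl π false a (x1 c) :=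
  h.rl (i := 0) (j := 5) (by decide) (add_zero _).symm
theorem Cnt8.r (h : Cnt8 ⟨a.x, a.y, a.p, a.q, a.u, a.v, 0⟩ (rr 1)) : ∃ π, sign π = 1 ∧ Rl π false a (rr 1) :=
  h.rl (i := 0) (j := 1) (by decide) rfl
theorem Cnt8.e (h : Cnt8 ⟨a.x, a.y, a.p, a.q, a.u, a.v, 0⟩ e0) : ∃ π, sign π = 1 ∧ Rl π false a e0 :=
  h.rl (i := 0) (j := 1) (by decide) rfl

theorem sing (e : qf a = 0) : a = zz a.z ∨ (∃ π c, sign π = 1 ∧ c ≠ 0 ∧ Rl π false a (x1 c)) ∨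
    (∃ π, sign π = 1 ∧ Rl π false a (rr 1)) ∨ ∃ π, sign π = 1 ∧ Rl π false a e0 := by
  rcases (by decide +kernel : ∀ x y p q u v : F, qf ⟨x, y, p, q, u, v, 0⟩ = 0 →
    (⟨x, y, p, q, u, v, 0⟩ : P2) = 1 ∨ Cnt8 ⟨x, y, p, q, u, v, 0⟩ e0 ∨ Cnt8 ⟨x, y, p, q, u, v, 0⟩ (rr 1) ∨
      ∃ c, c ≠ 0 ∧ Cnt8 ⟨x, y, p, q, u, v, 0⟩ (x1 c)) a.x a.y a.p a.q a.u a.v e with k | k | k | ⟨c, hc, k⟩
  · simp only [P2.one_def, P2.mk.injEq] at k
    exact Or.inl (P2.ext k.1 k.2.1 k.2.2.1 k.2.2.2.1 k.2.2.2.2.1 k.2.2.2.2.2.1 rfl)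
  · exact Or.inr (Or.inr (Or.inr k.e))
  · exact Or.inr (Or.inr (Or.inl k.r))
  · exact Or.inr (Or.inl (let ⟨π, h1, h2⟩ := k.x; ⟨π, c, h1, hc, h2⟩))

theorem to_r {x p q z : F} (e : p * q = 0) (h : p ≠ 0 ∨ q ≠ 0) :
    ∃ π, sign π = 1 ∧ Rl π false ⟨x, 0, p, q, 0, 0, z⟩ (rr 1) :=
  Cnt8.r ((by decide +kernel : ∀ x p q : F, p * q = 0 → p ≠ 0 ∨ q ≠ 0 → Cnt8 ⟨x, 0, p, q, 0, 0, 0⟩ (rr 1)) x p q e h)

theorem to_e {x p u t z : F} (hp : p ≠ 0) (e : u * t = 0) (h : u ≠ 0 ∨ t ≠ 0) :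
    ∃ π, sign π = 1 ∧ Rl π false ⟨x, 0, p, 0, u, t, z⟩ e0 :=
  Cnt8.e ((by decide +kernel : ∀ x p u t : F, p ≠ 0 → u * t = 0 → u ≠ 0 ∨ t ≠ 0 → Cnt8 ⟨x, 0, p, 0, u, t, 0⟩ e0)
    x p u t hp e h)

theorem to_e' {x p u z : F} (h0 : x ≠ 0) (h1 : x ≠ 1) (hp : p ≠ 0) (hu : u ≠ 0) :
    ∃ π, sign π = 1 ∧ Rl π false ⟨x, 0, p, p * p, u, u * u, z⟩ e0 :=
  Cnt8.e ((by decide +kernel : ∀ x p u : F, x ≠ 0 → x ≠ 1 → p ≠ 0 → u ≠ 0 → Cnt8 ⟨x, 0, p, p * p, u, u * u, 0⟩ e0)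
    x p u h0 h1 hp hu)

theorem to_x (ha : a ∈ Q0) (e : qf a = 0) (hz : a ≠ zz a.z) : ∃ π, sign π = 1 ∧ Rl π false a (x1 1) := by
  obtain ⟨x, y, p, q, u, v, z⟩ := a
  obtain ⟨a1, a2, rfl, rfl⟩ : _ ∧ _ ∧ q = p * p ∧ v = u * u := ha
  exact Cnt8.x ((by decide +kernel : ∀ x y p u z : F, x = 0 ∨ x = 1 → y = 0 ∨ y = 1 →
    qf ⟨x, y, p, p * p, u, u * u, 0⟩ = 0 → (⟨x, y, p, p * p, u, u * u, z⟩ : P2) ≠ zz z →
    Cnt8 ⟨x, y, p, p * p, u, u * u, 0⟩ (x1 1)) x y p u z a1 a2 e hz)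

theorem cyc_inv (h : π * π = 1) : π.cycleType = Multiset.replicate π.cycleType.card 2 ∧
    π.support.card = π.cycleType.card * 2 := by
  have k := Perm.cycleType_of_pow_prime_eq_one (σ := π) (p := 2) ((sq π).trans h)
  exact ⟨k, by rw [← Perm.sum_cycleType, k]; simp⟩

theorem cj_rep (h1 : sign π = 1) (h2 : π * π = 1) :
    ∃ τ, sign τ = 1 ∧ (τ * π * τ⁻¹ = 1 ∨ τ * π * τ⁻¹ = pa 1 ∨ τ * π * τ⁻¹ = pa 1 * pb 1) := by
  obtain ⟨k1, k2⟩ := cyc_inv h2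
  have k : ∀ ρ : Perm (Fin 8), ρ * ρ = 1 → swap 1 2 * ρ * (swap 1 2)⁻¹ = ρ → ρ.support.card = π.support.card →
      ∃ τ, sign τ = 1 ∧ τ * π * τ⁻¹ = ρ := fun ρ e1 e2 e3 => by
    obtain ⟨l1, l2⟩ := cyc_inv e1
    obtain ⟨τ, e⟩ := isConj_iff.1 (Perm.isConj_iff_cycleType_eq.2 (k1.trans
      ((congrArg (Multiset.replicate · 2) (by omega)).trans l1.symm)))
    rcases Int.units_eq_one_or (sign τ) with s | s
    · exact ⟨τ, s, e⟩
    · exact ⟨swap 1 2 * τ, by rw [map_mul, Perm.sign_swap (by decide), s]; rfl, by rw [cj_mul, e, e2]⟩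
  have h3 := Perm.sign_of_cycleType π
  have h4 : π.support.card ≤ 8 := Finset.card_le_univ _
  rw [h1, Perm.sum_cycleType, k2, eq_comm, neg_one_pow_eq_one_iff_even (by decide), Nat.even_iff] at h3
  obtain e | e | e : π.support.card = 0 ∨ π.support.card = 4 ∨ π.support.card = 8 := by omega
  · exact (k 1 (by decide) (by decide) (by rw [e]; decide)).imp fun _ h => ⟨h.1, Or.inl h.2⟩
  · exact (k _ (by decide) (by decide) (by rw [e]; decide)).imp fun _ h => ⟨h.1, Or.inr (Or.inl h.2)⟩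
  · exact (k _ (by decide) (by decide) (by rw [e]; decide)).imp fun _ h => ⟨h.1, Or.inr (Or.inr h.2)⟩

theorem cj_inv (h1 : sign π = 1) (h2 : π * π = 1) :
    ∃ τ s t, sign τ = 1 ∧ τ * π * τ⁻¹ = pa s * pb t ∧ (s = 0 → t = 0) := by
  obtain ⟨τ, e, k | k | k⟩ := cj_rep h1 h2
  exacts [⟨τ, 0, 0, e, k, id⟩, ⟨τ, 1, 0, e, k, fun _ => rfl⟩, ⟨τ, 1, 1, e, k, id⟩]

/-- `π` fixes the vector `v` modulo constants -/
def FxV (π : Perm (Fin 8)) (v : Fin 8 → F) : Prop := ∃ c, ∀ i, v (π i) = v i + c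

instance (π : Perm (Fin 8)) (v : Fin 8 → F) : Decidable (FxV π v) := by unfold FxV; infer_instance

theorem ex_vec {v : Fin 8 → F} (h : ∑ i, v i = 0) : ∃ b c, ∀ i, tt i b = v i + c := by
  rw [Fin.sum_univ_eight] at h
  obtain ⟨p, q, e⟩ := (by decide +kernel : ∀ y x a b c : F, y + x + a + b + c = 0 → ∃ p q, x + y + p + q = a ∧
    x + y + p * F.v + q * F.w = b ∧ x + y + p * F.w + q * F.v = c) (v 0 + (v 5 + v 6 + v 7)) (v 1 + (v 5 + v 6 + v 7))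
    (v 2 + (v 5 + v 6 + v 7)) (v 3 + (v 5 + v 6 + v 7)) (v 4 + (v 5 + v 6 + v 7))
    (by linear_combination h + 2 * (v 5 + v 6 + v 7) * F.two)
  obtain ⟨u, t, e'⟩ := (by decide +kernel : ∀ a b c : F, ∃ u t, u + t = a + (a + b + c) ∧
    u * F.v + t * F.w = b + (a + b + c) ∧ u * F.w + t * F.v = c + (a + b + c)) (v 5) (v 6) (v 7)
  refine ⟨⟨v 1 + (v 5 + v 6 + v 7), v 0 + (v 5 + v 6 + v 7), p, q, u, t, 0⟩, v 5 + v 6 + v 7, fun i => ?_⟩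
  fin_cases i
  exacts [rfl, rfl, e.1, e.2.1, e.2.2, e'.1, e'.2.1, e'.2.2]

theorem fx_of (h : ∀ a, Rl π false a a → Rl π' false a a) {v : Fin 8 → F} (hv : ∑ i, v i = 0) (e : FxV π v) :
    FxV π' v := by
  obtain ⟨b, c, k⟩ := ex_vec hv
  obtain ⟨d, e⟩ := e
  obtain ⟨d', e'⟩ := h b ⟨d, fun i => by rw [k, e, add_right_comm, ← k]; rfl⟩
  exact ⟨d', fun i => add_right_cancel (b := c) (by rw [← k, e', add_right_comm, ← k]; rfl)⟩

theorem FxV.rig {v : Fin 8 → F} (h : FxV π v) (k : ∀ c, c ≠ 0 →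
    (Finset.univ.filter fun l => v l = c).card ≠ (Finset.univ.filter fun l => v l = 0).card) (i : Fin 8) :
    v (π i) = v i := by
  obtain ⟨c, e⟩ := h
  obtain rfl : c = 0 := by_contra fun n => k c n (Finset.card_equiv π fun i => by
    simp only [Finset.mem_filter, Finset.mem_univ, true_and, e]
    exact (by decide : ∀ a c : F, a = c ↔ a + c = 0) _ _)
  rw [e, add_zero]

theorem fix_sub (h1 : sign π = 1) (h2 : π * π = 1) (h3 : sign π' = 1) (h : ∀ a, Rl π false a a → Rl π' false a a) :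
    π' = 1 ∨ π' = π := by
  obtain ⟨τ, -, e⟩ := cj_rep h1 h2
  have k : ∀ v : Fin 8 → F, ∑ i, v i = 0 → FxV (τ * π * τ⁻¹) v → FxV (τ * π' * τ⁻¹) v := fun v hv ⟨c, e⟩ =>
    let ⟨d, e'⟩ := fx_of h (v := fun i => v (τ i)) ((Equiv.sum_comp τ v).trans hv)
      ⟨c, fun i => by simpa using e (τ i)⟩
    ⟨d, fun i => by simpa using e' (τ⁻¹ i)⟩
  have s : sign (τ * π' * τ⁻¹) = 1 := by simp [h3, mul_comm]
  suffices τ * π' * τ⁻¹ = 1 ∨ τ * π' * τ⁻¹ = τ * π * τ⁻¹ by simpa using this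
  generalize τ * π' * τ⁻¹ = f at k s
  rcases e with e | e | e <;> rw [e] at k ⊢
  · have k1 := (k ![1, F.w, F.v, 0, 0, 0, 0, 0] (by decide) (by decide)).rig (by decide)
    have k2 := (k ![0, 0, 0, 1, F.w, F.v, 0, 0] (by decide) (by decide)).rig (by decide)
    have k3 := (k ![1, 0, 0, 0, 0, 0, F.w, F.v] (by decide) (by decide)).rig (by decide)
    refine Or.inl (Equiv.ext fun i => ?_)
    have := And.intro (k1 i) (And.intro (k2 i) (k3 i))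
    revert this; generalize f i = j; revert i j; decide
  · have k1 := (k ![1, 0, 0, 0, 0, F.w, F.v, 0] (by decide) (by decide)).rig (by decide)
    have k2 := (k ![1, 0, 0, 0, 0, F.w, 0, F.v] (by decide) (by decide)).rig (by decide)
    have k3 := (k ![1, F.w, F.w, 0, 0, 1, 0, 0] (by decide) (by decide)).rig (by decide)
    have l : ∀ i, f i = i ∨ f i = pa 1 i := fun i => by
      have := And.intro (k1 i) (And.intro (k2 i) (k3 i))
      revert this; generalize f i = j; revert i j; decide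
    have x : ∀ ρ : Perm (Fin 8), (∀ i, pa 1 i = i → ρ i = i) → f 1 = ρ 1 ∧ f 2 = ρ 2 → f 3 = ρ 3 ∧ f 4 = ρ 4 → f = ρ :=
      fun ρ e e1 e2 => Equiv.ext fun i => by
        have y : pa 1 i = i → f i = ρ i := fun m => ((l i).elim id (·.trans m)).trans (e i m).symm
        fin_cases i
        exacts [y rfl, e1.1, e1.2, e2.1, e2.2, y rfl, y rfl, y rfl]
    have y : ∀ i j a b : Fin 8, a ≠ b → a = i ∨ a = j → b = j ∨ b = i → a = i ∧ b = j ∨ a = j ∧ b = i := by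
      rintro i j a b n (rfl | rfl) (rfl | rfl) <;> simp_all
    rcases y 1 2 _ _ (f.injective.ne (by decide)) (l 1) (l 2) with a | a <;>
      rcases y 3 4 _ _ (f.injective.ne (by decide)) (l 3) (l 4) with b | b
    · exact Or.inl (x 1 (by decide) a b)
    · exact absurd (x (swap 3 4) (by decide) a b ▸ s) (by decide)
    · exact absurd (x (swap 1 2) (by decide) a b ▸ s) (by decide)
    · exact Or.inr (x _ (by decide) a b)
  · have k1 := (k ![1, F.w, F.w, 0, 0, 1, 0, 0] (by decide) (by decide)).rig (by decide)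
    have k2 := (k ![0, 0, 0, 1, 1, 0, F.w, F.w] (by decide) (by decide)).rig (by decide)
    obtain ⟨c, k3⟩ := k ![0, 0, 1, 0, 1, 1, 0, 1] (by decide) (by decide)
    refine (em (c = 0)).imp (fun m => Equiv.ext fun i => ?_) fun m => Equiv.ext fun i => ?_ <;>
    · have := And.intro (k1 i) (And.intro (k2 i) (k3 i))
      revert this m; generalize f i = j; clear k3; revert c i j; decide

theorem tr_one (h : ∀ a ∈ Q0, a.y = 0 → Rl π false a a) : π = 1 := by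
  have k1 : ∀ t, t ≠ 0 → ∀ i, tt (π i) ⟨1, 0, t, t * t, 0, 0, 0⟩ = tt i ⟨1, 0, t, t * t, 0, 0, 0⟩ := fun t ht =>
    FxV.rig (v := fun i => tt i _) (h _ (by simp [mem_Q0']) rfl) (by revert t; decide)
  have k2 : ∀ t, t ≠ 0 → ∀ i, tt (π i) ⟨1, 0, 0, 0, t, t * t, 0⟩ = tt i ⟨1, 0, 0, 0, t, t * t, 0⟩ := fun t ht =>
    FxV.rig (v := fun i => tt i _) (h _ (by simp [mem_Q0']) rfl) (by revert t; decide)
  refine Equiv.ext fun i => ?_
  have := fun t ht => And.intro (k1 t ht i) (k2 t ht i)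
  revert this; generalize π i = j; revert i j; decide

/-- the elements of the group `Σ` -/
def sig16 (b : Bool × Bool × Bool × Bool) : Perm (Fin 8) := cond b.1 (swap 0 1 * swap 2 5) 1 *
  cond b.2.1 (swap 0 1 * swap 3 6) 1 * cond b.2.2.1 (swap 0 1 * swap 4 7) 1 *
  cond b.2.2.2 (swap 0 2 * swap 1 5 * swap 3 4 * swap 6 7) 1

theorem exists_sigma : ∃ S : Subgroup (Perm (Fin 8)), Nat.card S = 16 ∧ ∀ π ∈ S, sign π = 1 ∧ Rl π false e0 e0 := by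
  refine ⟨⟨⟨⟨Set.range sig16, ?_⟩, ⟨(false, false, false, false), rfl⟩⟩, ?_⟩,
    (Nat.card_range_of_injective (f := sig16) (by decide +kernel)).trans (by simp), ?_⟩
  · rintro _ _ ⟨x, rfl⟩ ⟨y, rfl⟩
    exact (by decide +kernel : ∀ x y, ∃ z, sig16 z = sig16 x * sig16 y) x y
  · rintro _ ⟨x, rfl⟩
    exact (by decide +kernel : ∀ x, ∃ z, sig16 z = (sig16 x)⁻¹) x
  · rintro _ ⟨⟨a, b, c, d⟩, rfl⟩
    refine ⟨?_, (by decide +kernel : ∀ x, Rl (sig16 x) false e0 e0) _⟩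
    cases a <;> cases b <;> cases c <;> cases d <;> simp [sig16, Perm.sign_swap]

end Cfsg.Agent.G4S
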