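import Cfsg.Agent.G4S.Pm
import Cfsg.Agent.L4S.E2

/-! API of `St4`: port of `L4S/E2b` (up to `mem_NN`) and the first part of `L4S/E2`.
Notation of all G4S/E* docstrings: `P = ρ.range`, `W = ω.range`, `W' = η.range`, `V = ω (vv * *) = η (vv * *)`, `z = ρ (zz 1)`,
`z' = ρ (zz ω)`, `Z = ρ (zz *)`, `r1 = ρ (rr 1)`, `Q = QQ ρ f`, `a t = ω ⟨0,0,t,0,0⟩`, `b t = η ⟨0,0,t,0,0⟩`, `C = C(z)`.
Reuse `L4S.E2.two_odd, eqv_symm, sq_cj, w_split, wsq, wsq_z, w_trans, comm_iff`, `L4S.WW.*` (`L4S/E1b`). -/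

set_option autoImplicit false

namespace Cfsg.Agent.G4S

open Subgroup L4S P2 Equiv
open Equiv.Perm (sign)
open TT (Eqv XS)
open WW (vv)

variable {G : Type*} [Group G] {A : Subgroup G} {ρ : P2 →* G} {ω η : WW →* G} {D : Subgroup G} {h n f y j k : G}
  {x : G} {π : Perm (Fin 8)} {σ : Bool} {a : P2}

local notation "𝐳" => ρ (zz 1)
local notation "𝐐" => QQ ρ f

theorem eqv_of {c : F} (hc : c = 0 ∨ c = 1) : Eqv 𝐳 (ρ (a * zz c)) (ρ a) := by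
  rcases hc with rfl | rfl
  exacts [Or.inl (congrArg ρ (mul_one a)), Or.inr (map_mul _ _ _)]

theorem pow_two (e : x * x = 1 ∨ x * x = 𝐳) : ∃ i, x ^ 2 ^ i = 1 :=
  ⟨2, by
    rw [show x ^ 2 ^ 2 = x * x * (x * x) by simp [pow_succ, mul_assoc]]
    rcases e with e | e <;> rw [e]
    exacts [one_mul 1, z2 ρ 1]⟩

theorem Rl.of_zr {b : P2} {c : F} (h : Rl π σ a (b * zz c)) : Rl π σ a b := by
  simpa [mul_assoc, zz_mul, zz_zero] using h.zr c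

theorem rpow4 (ρ : P2 →* G) (a : P2) : ρ a ^ 2 ^ 2 = 1 := by
  rw [← map_pow]; exact (congrArg ρ (pow4 a)).trans ρ.map_one

namespace St4

variable (H : St4 A ρ ω η D h n f y j k)
include H

theorem rd {d : G} (hd : d ∈ D) (a : P2) : Commute (ρ a) d := mem_cen.1 (H.rc a) d hd

theorem of_eqv {c : F} (e : Eqv 𝐳 (ρ (a * zz c)) (ρ a)) : c = 0 ∨ c = 1 :=
  e.imp (fun e => zz_inj (mul_eq_left.1 (H.rinj e))) fun e =>
    zz_inj (mul_left_cancel (H.rinj (e.trans (map_mul _ _ _).symm)))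

theorem ker2 (m : Mv ρ x 1 false) (e : ∃ i, x ^ 2 ^ i = 1) : ∃ a, x = ρ a := by
  obtain ⟨u, d, hd, rfl⟩ := H.ker x m
  obtain ⟨i, e⟩ := e
  obtain rfl := E2.two_odd (H.rd hd u) (rpow4 ρ u) (H.odd d hd) e
  exact ⟨u, mul_one _⟩

theorem ker3 {l : G} (m : Mv ρ x π σ) (e : ∃ i, x ^ 2 ^ i = 1) (c : Mv ρ l π σ) (l2 : ∃ a, l * l = ρ a)
    (hl : l ∈ centralizer (D : Set G)) : ∃ a, x = l * ρ a := by
  obtain ⟨u, d, hd, e1⟩ := H.ker (l⁻¹ * x) (by simpa using (c.inv H.rinj).mul m)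
  obtain ⟨i, e⟩ := e
  obtain ⟨u0, l2⟩ := l2
  obtain ⟨u', e2, -⟩ := (c.inv H.rinj).2 u
  rw [inv_mul_eq_iff_eq_mul, ← mul_assoc] at e1
  obtain rfl := E2.two_odd (k := 3) (l := i) ((mem_cen.1 hl d hd).mul_left (H.rd hd u)) (by
    rw [show 2 ^ 3 = 2 * 4 from rfl, pow_mul, sq, show l * ρ u * (l * ρ u) = l * l * (l⁻¹ * ρ u * l⁻¹⁻¹) * ρ u by group,
      l2, e2, ← map_mul, ← map_mul, ← map_pow, pow4, map_one]) (H.odd d hd) (e1 ▸ e)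
  exact ⟨u, e1.trans (mul_one _)⟩

theorem semi (m : Mv ρ x π true) (e : x * x = 1 ∨ x * x = 𝐳) {c : F} (e' : x * ρ a * x⁻¹ = ρ (a * zz c)) :
    c = 0 ∨ c = 1 := by
  have e1 : x * x * ρ a * (x * x)⁻¹ = ρ a := by
    rcases e with e | e <;> rw [e]
    exacts [by simp, cj_of_comm (pz ρ a 1).symm]
  rw [cj_mul, e', map_mul, ← conj_mul, e', m.1, ← map_mul, mul_assoc, zz_mul] at e1
  exact (by decide : ∀ c, c + fs true c = 0 → c = 0 ∨ c = 1) c (zz_inj (mul_eq_left.1 (H.rinj e1)))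

theorem fQ0 (ha : a ∈ Q0) : Eqv 𝐳 (f * ρ a * f⁻¹) (ρ a) := by
  obtain ⟨u', e1, e2⟩ := H.fmv.2 a
  obtain ⟨c, rfl⟩ := (e2.of_q0 ha).eq1
  exact e1 ▸ eqv_of (H.semi H.fmv (Or.inl H.fsq) e1)

theorem memQ : x ∈ 𝐐 ↔ ∃ a ∈ Q0, x = ρ a ∨ x = f * ρ a := by
  have : Finite (Q0.map ρ : Set G) := (Set.toFinite _).image ρ
  have hn : zpowers f ≤ normalizer (Q0.map ρ : Set G) := zpowers_le.2 (mem_normalizer_fintype (by
    rintro _ ⟨u, hu, rfl⟩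
    exact (H.fQ0 hu).mem (mem_map_of_mem ρ (zz_mem 1)) (mem_map_of_mem ρ hu)))
  rw [QQ, sup_comm, PLocal.Amb.mem_sup_of_le_normalizer_right hn]
  constructor
  · rintro ⟨a, ha, _, ⟨u, hu, rfl⟩, rfl⟩
    rcases (TT.mem_zpowers_invol H.fsq).1 ha with rfl | rfl
    exacts [⟨u, hu, Or.inl (one_mul _)⟩, ⟨u, hu, Or.inr rfl⟩]
  · rintro ⟨u, hu, rfl | rfl⟩
    exacts [⟨1, one_mem _, _, mem_map_of_mem ρ hu, (one_mul _).symm⟩, ⟨f, mem_zpowers f, _, mem_map_of_mem ρ hu, rfl⟩]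

theorem rQ (ha : a ∈ Q0) : ρ a ∈ 𝐐 := H.memQ.2 ⟨a, ha, Or.inl rfl⟩

theorem fQ : f ∈ 𝐐 := H.memQ.2 ⟨1, one_mem _, Or.inr (by simp)⟩

theorem mv_fr (a : P2) : Mv ρ (f * ρ a) 1 true := by simpa using H.fmv.mul (mv_inn ρ a)

theorem fr_ne (a b : P2) : f * ρ a ≠ ρ b := fun e =>
  absurd ((H.mv_fr a).uniq H.rinj (e ▸ mv_inn ρ b)).2 (by decide)

theorem of_rQ (ha : ρ a ∈ 𝐐) : a ∈ Q0 := by
  obtain ⟨b, hb, e | e⟩ := H.memQ.1 ha
  exacts [H.rinj e ▸ hb, absurd e.symm (H.fr_ne _ _)]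

theorem z_ne : 𝐳 ≠ 1 := fun e => absurd (H.rinj (e.trans ρ.map_one.symm)) (by decide)

theorem fz : ¬ Commute f (ρ (zz F.w)) := fun c => absurd (H.fmv.cen H.rinj c) (by decide)

theorem xs : XS 𝐐 𝐳 := by
  have cz : ∀ x ∈ 𝐐, Commute x 𝐳 := fun x hx => by
    obtain ⟨u, -, rfl | rfl⟩ := H.memQ.1 hx
    exacts [(mv_inn ρ u).comm, (H.mv_fr u).comm]
  have k1 : ∀ u ∈ Q0, ∀ x ∈ 𝐐, Eqv 𝐳 (x * ρ u * x⁻¹) (ρ u) := fun u hu x hx => by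
    have k : ∀ u' ∈ Q0, Eqv 𝐳 (ρ u' * ρ u * (ρ u')⁻¹) (ρ u) := fun u' hu' =>
      rcj ρ u' u ▸ eqv_of (bf_mem hu' hu)
    obtain ⟨u', hu', rfl | rfl⟩ := H.memQ.1 hx
    · exact k u' hu'
    · rw [cj_mul]; exact ((k u' hu').conj H.fmv.comm).trans (z2 ρ 1) (H.fQ0 hu)
  refine ⟨H.rQ (zz_mem 1), H.z_ne, z2 ρ 1, cz, fun x hx x' hx' => ?_, fun x hx c => ?_,
    f, H.fQ, by simpa using H.fr_ne 1 1, by simpa using H.fr_ne 1 (zz 1)⟩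
  · have : Eqv 𝐳 (x * x' * x⁻¹) x' := by
      obtain ⟨u, hu, rfl | rfl⟩ := H.memQ.1 hx'
      · exact k1 u hu x hx
      · rw [← conj_mul]
        refine (((?_ : Eqv _ _ f).mul_right (cz _ (mul_mem (mul_mem hx (H.rQ hu)) (inv_mem hx))))).trans (z2 ρ 1)
          ((k1 u hu x hx).mul_left f)
        obtain ⟨u', hu', rfl | rfl⟩ := H.memQ.1 hx
        · exact E2.eqv_symm (z2 ρ 1) H.fmv.comm (cz _ hx) (H.fQ0 hu')
        · rw [cj_mul]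
          simpa using (E2.eqv_symm (z2 ρ 1) H.fmv.comm (cz _ (H.rQ hu')) (H.fQ0 hu')).conj H.fmv.comm
    simpa [Eqv] using this.mul_right (cz x hx)
  · obtain ⟨u, hu, rfl | rfl⟩ := H.memQ.1 hx
    · have e := cen_of_bf (a := u) fun b hb => bf_zero (H.rinj (by rw [map_mul, map_mul, c _ (H.rQ hb)]))
      have := H.rinj ((H.fmv.1 u.z).symm.trans (cj_of_comm (e ▸ (c f H.fQ).symm)))
      rw [e]
      generalize u.z = t at this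
      cases t
      exacts [Or.inl ρ.map_one, Or.inr rfl, absurd this (by decide), absurd this (by decide)]
    · exact absurd ((H.mv_fr u).cen H.rinj (c _ (H.rQ (zz_mem _)))) (by decide)

theorem card : Nat.card 𝐐 = 512 := by
  refine (Nat.card_eq_of_bijective (fun p : Q0 × Bool => (⟨cond p.2 f 1 * ρ p.1,
    mul_mem (by cases p.2; exacts [one_mem _, H.fQ]) (H.rQ p.1.2)⟩ : 𝐐)) ⟨?_, ?_⟩).symm.trans
      (by rw [Nat.card_prod, card_Q0]; simp)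
  · rintro ⟨v, a⟩ ⟨w, b⟩ e
    have e : cond a f 1 * ρ v = cond b f 1 * ρ w := congrArg Subtype.val e
    cases a <;> cases b
    exacts [by rw [Subtype.ext (H.rinj (mul_left_cancel e))], absurd (e.symm.trans (one_mul _)) (H.fr_ne _ _),
      absurd (e.trans (one_mul _)) (H.fr_ne _ _), by rw [Subtype.ext (H.rinj (mul_left_cancel e))]]
  · rintro ⟨g, hg⟩
    obtain ⟨u, hu, rfl | rfl⟩ := H.memQ.1 hg
    exacts [⟨(⟨u, hu⟩, false), Subtype.ext (one_mul _)⟩, ⟨(⟨u, hu⟩, true), rfl⟩]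

theorem DQ : D ≤ centralizer (𝐐 : Set G) := fun d hd => mem_cen.2 fun x hx => by
  obtain ⟨u, -, rfl | rfl⟩ := H.memQ.1 hx
  exacts [(H.rd hd u).symm, ((mem_cen.1 H.fc d hd).mul_left (H.rd hd u)).symm]

theorem chq (m : Mv ρ x π σ) (e : ∃ i, x ^ 2 ^ i = 1) (c : ∀ a ∈ Q0, Eqv 𝐳 (x * ρ a * x⁻¹) (ρ a)) : x ∈ 𝐐 := by
  obtain rfl : π = 1 := tr_one fun a ha _ => Rl.of_q0 (σ := σ) (by
    rcases c a ha with e | e
    exacts [m.rl H.rinj e, (m.rl H.rinj (e.trans (map_mul _ _ _).symm)).of_zr]) ha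
  cases σ
  · obtain ⟨u, rfl⟩ := H.ker2 m e
    exact H.rQ (mem_of_bf fun b hb => H.of_eqv (rcj ρ u b ▸ c b hb))
  · obtain ⟨u, rfl⟩ := H.ker3 m e H.fmv ⟨1, H.fsq.trans ρ.map_one.symm⟩ H.fc
    refine H.memQ.2 ⟨u, mem_of_bf fun b hb => H.of_eqv (a := b) ?_, Or.inr rfl⟩
    have := ((c b hb).trans (z2 ρ 1) ((H.fQ0 hb).symm (z2 ρ 1))).conj H.fmv.comm.inv_left
    rw [cj_mul, rcj] at this
    simpa [mul_assoc] using this

theorem mem_NN : x ∈ NN ρ ↔ ∃ π σ, sign π = 1 ∧ Mv ρ x π σ :=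
  ⟨fun a => H.mv x a.1 (mem_centralizer_singleton_iff.1 a.2),
    fun ⟨_, _, _, a⟩ => ⟨a.nor, mem_centralizer_singleton_iff.2 a.comm⟩⟩

theorem QN : 𝐐 ≤ NN ρ := fun x hx => by
  obtain ⟨u, -, rfl | rfl⟩ := H.memQ.1 hx
  exacts [H.mem_NN.2 ⟨_, _, Perm.sign_one, mv_inn ρ u⟩, H.mem_NN.2 ⟨_, _, Perm.sign_one, H.mv_fr u⟩]

theorem mv_to (hπ : sign π = 1) {a b : P2} (hb : b ≠ zz b.z) (e : Rl π false a b) :
    ∃ l ∈ centralizer (D : Set G), Mv ρ l π false ∧ l * ρ a * l⁻¹ = ρ b :=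
  let ⟨_, hx, m⟩ := H.a8 π hπ
  G4S.mv_to H.rc hx m hb e

theorem ωv (x z : F) : ω (vv x z) = ρ ⟨x, 0, 0, 0, 0, 0, z⟩ := (H.rw x 0 0 z).symm

theorem ηv (x z : F) : η (vv x z) = ρ ⟨x, 0, 0, 0, 0, 0, z⟩ := (H.rη x 0 0 z).symm

theorem split (x p q u t z : F) : ρ ⟨x, 0, p, q, u, t, z⟩ = ω ⟨p, q, 0, x, z⟩ * η ⟨u, t, 0, 0, 0⟩ := by
  rw [← H.rw, ← H.rη, ← map_mul]; simp [P2.mul_def]

theorem yw (c p q t x z : F) : ∃ x' z', ρ (x5 c) * ω ⟨p, q, t, x, z⟩ * (ρ (x5 c))⁻¹ =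
    ω ⟨p + c * t * t, q + c * t, t, x', z'⟩ := by
  obtain ⟨x', z', e⟩ := H.ya c t
  rw [E2.w_split, ← conj_mul, e, ← H.rw, rcj, show (⟨x, 0, p, q, 0, 0, z⟩ * zz (bf (x5 c) ⟨x, 0, p, q, 0, 0, z⟩) : P2) =
    ⟨x, 0, p, q, 0, 0, z + c * x⟩ by simp [P2.mul_def, zz, bf, x5], H.rw, ← map_mul]
  exact ⟨x + x', _, by simp only [WW.mul_def, zero_mul, add_zero, zero_add]; rfl⟩

theorem yw' (c p q t x z : F) : ∃ x' z', ρ (x5 c) * η ⟨p, q, t, x, z⟩ * (ρ (x5 c))⁻¹ =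
    η ⟨p + c * t * t, q + c * t, t, x', z'⟩ := by
  obtain ⟨x', z', e⟩ := H.yb c t
  rw [E2.w_split, ← conj_mul, e, ← H.rη, rcj, show (⟨x, 0, 0, 0, p, q, z⟩ * zz (bf (x5 c) ⟨x, 0, 0, 0, p, q, z⟩) : P2) =
    ⟨x, 0, 0, 0, p, q, z + c * x⟩ by simp [P2.mul_def, zz, bf, x5], H.rη, ← map_mul]
  exact ⟨x + x', _, by simp only [WW.mul_def, zero_mul, add_zero, zero_add]; rfl⟩

theorem pW (a : P2) : ρ a ∈ normalizer (ω.range : Set G) := by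
  have : Finite (ω.range : Set G) := Set.finite_range ω
  obtain ⟨x, c, p, q, u, t, z⟩ := a
  rw [show (⟨x, c, p, q, u, t, z⟩ : P2) = ⟨x, 0, p, q, u, t, z + x * c⟩ * x5 c by simp [P2.mul_def, add_assoc, x5],
    map_mul, H.split]
  refine mul_mem (mul_mem (le_normalizer ⟨_, rfl⟩) (cen_le_nor (mem_cen.2 ?_))) (mem_normalizer_fintype ?_)
  · rintro _ ⟨w, rfl⟩
    exact (H.ww w _).symm
  rintro _ ⟨⟨p, q, m, x, z⟩, rfl⟩
  obtain ⟨x', z', e⟩ := H.yw c p q m x z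
  exact ⟨_, e.symm⟩

theorem nW : n ∈ normalizer (ω.range : Set G) :=
  have : Finite (ω.range : Set G) := Set.finite_range ω
  mem_normalizer_fintype (by rintro _ ⟨⟨p, q, m, x, z⟩, rfl⟩; exact ⟨_, (H.nω p q m x z).symm⟩)

theorem ηW (w : WW) : η w ∈ normalizer (ω.range : Set G) := cen_le_nor (mem_cen.2 (by rintro _ ⟨w', rfl⟩; exact (H.ww w' w).symm))

/-- the type of an element of `W W'` -/
theorem wmv (w w' : WW) : Mv ρ (ω w * η w') (pa w.m * pb w'.m) false := by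
  obtain ⟨p, q, m, x, z⟩ := w
  obtain ⟨p', q', m', x', z'⟩ := w'
  rw [E2.w_split, E2.w_split η, ← H.rw, ← H.rη]
  simpa using ((mv_inn ρ _).mul (H.amv m)).mul ((mv_inn ρ _).mul (H.bmv m'))

/-- uniqueness of the decomposition modulo `V` (commutators with `W` and `W'`, `WW.cen`) -/
theorem ww_inj {w1 w2 w1' w2' : WW} (e : ω w1 * η w1' = ω w2 * η w2') :
    (w1.p = w2.p ∧ w1.q = w2.q ∧ w1.m = w2.m) ∧ w1'.p = w2'.p ∧ w1'.q = w2'.q ∧ w1'.m = w2'.m := by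
  have e1 : ω (w2⁻¹ * w1) = η (w2' * w1'⁻¹) := by
    rw [map_mul, map_mul, map_inv, map_inv, inv_mul_eq_iff_eq_mul, ← mul_assoc, ← e, mul_inv_cancel_right]
  have k : ∀ a b : F, a + b = 0 → b = a := by decide
  have a := WW.cen' (w := w2⁻¹ * w1) fun v => H.winj (by
    rw [map_mul _ _ v, map_mul _ v, e1]; exact (H.ww v _).symm)
  have b := WW.cen' (w := w2' * w1'⁻¹) fun v => H.jnj (by
    rw [map_mul _ _ v, map_mul _ v, ← e1]; exact H.ww _ v)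
  exact ⟨⟨k _ _ (congrArg WW.p a), k _ _ (congrArg WW.q a), k _ _ (congrArg WW.m a)⟩,
    k _ _ (congrArg WW.p b), k _ _ (congrArg WW.q b), k _ _ (congrArg WW.m b)⟩

theorem pw_y {w w' : WW} (e : ω w * η w' = ρ a) : a = ⟨a.x, 0, w.p, w.q, w'.p, w'.q, a.z⟩ ∧ w.m = 0 ∧ w'.m = 0 := by
  obtain ⟨h1, h2⟩ := pab_one ((H.wmv w w').uniq H.rinj (e ▸ mv_inn ρ a)).1
  obtain ⟨p, q, m, x, z⟩ := w
  obtain ⟨p', q', m', x', z'⟩ := w'
  obtain rfl : m = 0 := h1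
  obtain rfl : m' = 0 := h2
  rw [← H.rw, ← H.rη, ← map_mul] at e
  exact ⟨by rw [← H.rinj e]; simp [P2.mul_def], rfl, rfl⟩

/-- `N(W)` normalises `V` -/
theorem tauV (hx : x ∈ normalizer (ω.range : Set G)) (c z : F) :
    ∃ c' z', x * ρ ⟨c, 0, 0, 0, 0, 0, z⟩ * x⁻¹ = ρ ⟨c', 0, 0, 0, 0, 0, z'⟩ := by
  obtain ⟨w, e⟩ := nor_cjA hx ⟨vv c z, rfl⟩
  rw [← H.ωv, ← e]
  refine ⟨w.x, w.z, (congrArg ω (WW.cen' fun v => H.winj ?_)).trans (H.ωv _ _)⟩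
  obtain ⟨v', e'⟩ := nor_cjA (inv_mem hx) ⟨v, rfl⟩
  rw [inv_inv] at e'
  rw [map_mul, map_mul, e]
  exact (comm_cj'' (e' ▸ Commute.map (WW.vv_comm c z v') ω)).eq

theorem jW' : cj j ω.range = η.range := by
  obtain ⟨a, d, hd, e⟩ := H.ker (j * j) (by
    simpa [show pj * pj = 1 by decide] using H.jmv.mul H.jmv)
  rw [← H.jW]
  refine (PLocal.Amb.cj_mul j j _).symm.trans (e ▸ PLocal.Amb.cj_of_mem_normalizer (mul_mem (H.nww (H.pW a)) (cen_le_nor (mem_cen.2 ?_))))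
  rintro _ ⟨w, rfl⟩
  exact (mem_cen.1 (H.AD (H.vA w)) d hd).symm

variable [Finite G]

theorem nq (m : Mv ρ x π σ) : x ∈ normalizer (𝐐 : Set G) ⊓ normalizer (D : Set G) := by
  have k : ∀ u ∈ Q0, x * ρ u * x⁻¹ ∈ 𝐐 := fun u hu => by
    obtain ⟨u', e1, e2⟩ := m.2 u
    exact e1 ▸ H.rQ (e2.q0 hu)
  refine ⟨mem_normalizer_fintype fun g hg => ?_, mem_normalizer_fintype fun d hd => ?_⟩
  · obtain ⟨u, hu, rfl | rfl⟩ := H.memQ.1 hg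
    · exact k u hu
    rw [← conj_mul]
    refine mul_mem ?_ (k u hu)
    have e2 : x * f * x⁻¹ * (x * f * x⁻¹) = 1 := by rw [conj_mul, H.fsq]; simp
    obtain ⟨u, e⟩ := H.ker3 (π := 1) (by simpa using m.cj H.rinj H.fmv) ⟨1, (sq _).trans e2⟩ H.fmv
      ⟨1, H.fsq.trans ρ.map_one.symm⟩ H.fc
    obtain ⟨u', e3, e4⟩ := H.fmv.2 u
    rw [inv_eq_of_mul_eq_one_left H.fsq] at e3
    rw [e, ← mul_assoc, e3, ← map_mul, ← ρ.map_one] at e2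
    refine H.memQ.2 ⟨u, mem_Q0.2 fun i => ?_, Or.inr e⟩
    have := congrArg (tt i) (H.rinj e2)
    rw [tt_mul, e4.one i, show tt i 1 = 0 from tt_zz i 0] at this
    revert this; generalize tt i u = t; revert t; decide
  · obtain ⟨u, d', hd', e⟩ := H.ker (x * d * x⁻¹) (mv_of_comm fun u => comm_cj'' (by
      obtain ⟨u', e, -⟩ := (m.inv H.rinj).2 u
      rw [inv_inv] at e
      exact e ▸ (H.rd hd u').symm))
    have o : Odd (orderOf (x * d * x⁻¹)) := by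
      rw [show orderOf (x * d * x⁻¹) = orderOf d from
        orderOf_injective (MulAut.conj x).toMonoidHom (MulAut.conj x).injective d]
      exact H.odd d hd
    have e1 : ρ u ^ (orderOf (x * d * x⁻¹) * orderOf d') = 1 := by
      have := pow_orderOf_eq_one (x * d * x⁻¹)
      generalize orderOf (x * d * x⁻¹) = m at this
      have := congrArg (· ^ orderOf d') this
      simp only [e, ← pow_mul, one_pow] at this
      rwa [(H.rd hd' u).mul_pow, mul_comm m, pow_mul d', pow_orderOf_eq_one, one_pow, mul_one, mul_comm _ m] at this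
    rwa [e, one_of_odd ((o.mul (H.odd d' hd')).of_dvd_nat (orderOf_dvd_of_pow_eq_one e1)) (rpow4 ρ u), one_mul]

theorem mH (m : Mv ρ x π σ) : x ∈ HH ρ f D := ⟨H.nq m, mem_centralizer_singleton_iff.2 m.comm⟩

theorem yH : y ∈ HH ρ f D := ⟨⟨H.yQ, cen_le_nor H.yc⟩, mem_centralizer_singleton_iff.2 H.yz⟩

/-- `z' z = f z' f⁻¹`; otherwise `to_x`, `mv_to`, `yz'` -/
theorem q0_cj (ha : a ∈ Q0) (e : qf a = 0) : ρ a = 1 ∨ ρ a = 𝐳 ∨ ∃ c ∈ HH ρ f D, c * ρ (zz F.w) * c⁻¹ = ρ a := by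
  by_cases hz : a = zz a.z
  · rw [hz]
    cases a.z
    exacts [.inl ρ.map_one, .inr (.inl rfl), .inr (.inr ⟨1, one_mem _, by simp⟩),
      .inr (.inr ⟨f, H.mH H.fmv, H.fmv.1 _⟩)]
  obtain ⟨π, hπ, r⟩ := to_x ha e hz
  obtain ⟨l, -, m, e⟩ := H.mv_to hπ (by decide) r
  exact .inr (.inr ⟨l⁻¹ * y, mul_mem (inv_mem (H.mH m)) H.yH, by rw [cj_mul, H.yz', ← e]; group⟩)

/-- PROOF. `x = f ρ a` maps `z'` to `z' z` and fixes `x1 1` mod `z`, so it centralises `e = x1 1` or `e = x1 1 * z'`;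
`e = c z' c⁻¹` (`q0_cj`), and `c⁻¹ x c ∈ C_Q(z') = ρ Q0`. -/
theorem q_cj (hx : x ∈ 𝐐) (e : x * x = 1) : x = 1 ∨ x = 𝐳 ∨ ∃ c ∈ HH ρ f D, c * ρ (zz F.w) * c⁻¹ = x := by
  have k : ∀ a, ρ a * ρ a = 1 → qf a = 0 := fun a e =>
    zz_inj (H.rinj (by rw [← sq_eq, map_mul, e, zz_zero, map_one]))
  obtain ⟨a, ha, rfl | rfl⟩ := H.memQ.1 hx
  · exact H.q0_cj ha (k a e)
  obtain ⟨b, hb, b0, b1, b2, c⟩ : ∃ b ∈ Q0, qf b = 0 ∧ b ≠ 1 ∧ b ≠ zz 1 ∧ Commute (f * ρ a) (ρ b) := by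
    rcases H.xs.conj hx (H.rQ (a := x1 1) (by decide)) with c | c
    · exact ⟨_, by decide, by decide, by decide, by decide, comm_of_cj c⟩
    · refine ⟨x1 1 * zz F.w, by decide, by decide, by decide, by decide, comm_of_cj ?_⟩
      rw [map_mul, ← conj_mul, c, (H.mv_fr a).1, mul_assoc, ← map_mul]; rfl
  rcases H.q0_cj hb b0 with e1 | e1 | ⟨g, hg, e1⟩
  · exact absurd (H.rinj (e1.trans ρ.map_one.symm)) b1
  · exact absurd (H.rinj e1) b2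
  have gz : Commute g 𝐳 := mem_centralizer_singleton_iff.1 hg.2
  obtain ⟨u, hu, e2 | e2⟩ := H.memQ.1 (nor_cjA (inv_mem hg.1.1) hx) <;> rw [inv_inv] at e2
  swap
  · exact absurd ((H.mv_fr u).cen H.rinj (e2 ▸ (comm_cj' (e1 ▸ c.symm)).symm)) (by decide)
  have e3 : f * ρ a = g * ρ u * g⁻¹ := by rw [← e2]; group
  rw [e3] at e ⊢
  rcases H.q0_cj hu (k u (by simpa [conj_mul] using e)) with e4 | e4 | ⟨g', hg', e4⟩
  exacts [.inl (by simp [e4]), .inr (.inl (by rw [e4, cj_of_comm gz])),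
    .inr (.inr ⟨g * g', mul_mem hg hg', by rw [cj_mul, e4]⟩)]

/-- `Q` is generated by conjugates of `z'` (`q0_two`, `q_cj`; `z = z' * f z' f⁻¹`) -/
theorem Q_le {X : Subgroup G} (e : ∀ c ∈ HH ρ f D, c * ρ (zz F.w) * c⁻¹ ∈ 𝐐 → c * ρ (zz F.w) * c⁻¹ ∈ X) : 𝐐 ≤ X := by
  have z' : ρ (zz F.w) ∈ X := by simpa using e 1 (one_mem _) (by simpa using H.rQ (zz_mem _))
  have z : 𝐳 ∈ X := by
    have := mul_mem z' (e f (H.mH H.fmv) (H.fmv.1 _ ▸ H.rQ (zz_mem _)))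
    rwa [H.fmv.1, ← map_mul] at this
  have k : ∀ x ∈ 𝐐, x * x = 1 → x ∈ X := fun x hx x2 => by
    rcases H.q_cj hx x2 with rfl | rfl | ⟨c, hc, rfl⟩
    exacts [one_mem _, z, e c hc hx]
  have k1 : ∀ a ∈ Q0, ρ a ∈ X := fun a ha => by
    obtain ⟨b, hb, c, hc, b0, c0, rfl⟩ := q0_two ha
    rw [map_mul]
    exact mul_mem (k _ (H.rQ hb) (by rw [← map_mul, sq_eq, b0, zz_zero, map_one]))
      (k _ (H.rQ hc) (by rw [← map_mul, sq_eq, c0, zz_zero, map_one]))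
  intro x hx
  obtain ⟨a, ha, rfl | rfl⟩ := H.memQ.1 hx
  exacts [k1 a ha, mul_mem (k f H.fQ H.fsq) (k1 a ha)]

end St4

end Cfsg.Agent.G4S
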