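import Cfsg.Agent.G4S.E2a

/-! Involutions of `N(P) ∩ C(z)`; notation of `G4S/E2a`, template `L4S/E2`. -/

set_option autoImplicit false
set_option linter.unusedSectionVars false
set_option synthInstance.maxSize 4000

namespace Cfsg.Agent.G4S

open Subgroup L4S P2 Equiv
open Equiv.Perm (sign)
open TT (Eqv XS)
open WW (vv)

variable {G : Type*} [Group G] [Finite G] {A : Subgroup G} {ρ : P2 →* G} {ω η : WW →* G} {D : Subgroup G}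
  {h n f y j k : G} {x : G} {π : Perm (Fin 8)} {σ : Bool} {a : P2}

local notation "𝐳" => ρ (zz 1)
local notation "𝐫" => ρ (rr 1)
local notation "𝐃" => normalizer (D : Set G)

local notation "𝐖" => normalizer (ω.range : Set G)

/-- involutions of `WW` outside the centre -/
def WInv (w : WW) : Prop := w * w = 1 ∧ w ≠ vv w.x w.z

theorem winv_iff {p q m x z : F} : WInv ⟨p, q, m, x, z⟩ ↔
    (m * p + m * m * q = 0 ∧ q * p + m * q * q = 0) ∧ (p ≠ 0 ∨ q ≠ 0 ∨ m ≠ 0) := by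
  rw [WInv, E2.wsq]
  simp only [WW.one_def, vv, Ne, WW.mk.injEq, true_and, and_true, not_and_or]

theorem winv_cases : ∀ p q m : F, m * p + m * m * q = 0 ∧ q * p + m * q * q = 0 → m ≠ 0 →
    ∃ c, p + c * m * m = 0 ∧ q + c * m = 0 := by decide

theorem rl_x1 : ∀ s t, Rl (pa s * pb t) true (x1 1) (x1 1) := by decide +kernel

theorem rl_pk : ∀ x q z : F, Rl pk false ⟨x, 0, 0, q, 0, 0, z⟩ ⟨x, 0, q, 0, 0, 0, 0⟩ := by decide +kernel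

theorem star_ex : ∀ p q m : F, m * p + m * m * q = 0 ∨ m * p + m * m * q = 1 → ∃ p' q' m' : F,
    ((m' * p' + m' * m' * q' = 0 ∧ q' * p' + m' * q' * q' = 0) ∧ (p' ≠ 0 ∨ q' ≠ 0 ∨ m' ≠ 0)) ∧
      WW.cx ⟨p, q, m, 0, 0⟩ ⟨p', q', m', 0, 0⟩ = 0 ∧ (WW.cz ⟨p, q, m, 0, 0⟩ ⟨p', q', m', 0, 0⟩ = 0 ∨
        WW.cz ⟨p, q, m, 0, 0⟩ ⟨p', q', m', 0, 0⟩ = 1) := by decide +kernel

variable (ρ D) in
/-- conjugate to `z` or `e0` -/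
def Rs1 (x : G) : Prop := ∃ l ∈ 𝐃, l * x * l⁻¹ = 𝐳 ∨ l * x * l⁻¹ = ρ e0

/-- the conclusion of `cls` -/
def Rs (ρ : P2 →* G) (f : G) (D : Subgroup G) (x : G) : Prop :=
  Rs1 ρ D x ∨ ∃ l ∈ HH ρ f D, l * x * l⁻¹ = ρ (rr 1)

theorem Rs1.of_cj {l : G} (hl : l ∈ 𝐃) (r : Rs1 ρ D (l * x * l⁻¹)) : Rs1 ρ D x :=
  let ⟨l', h', e⟩ := r
  ⟨l' * l, mul_mem h' hl, by rwa [cj_mul]⟩

theorem Rs.of_cj {l : G} (hl : l ∈ HH ρ f D) (r : Rs ρ f D (l * x * l⁻¹)) : Rs ρ f D x :=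
  r.imp (Rs1.of_cj hl.1.2) fun ⟨l', h', e⟩ => ⟨l' * l, mul_mem h' hl, by rwa [cj_mul]⟩

namespace St4

variable (H : St4 A ρ ω η D h n f y j k)
include H

theorem ww_mul (a b c d : WW) : ω a * η b * (ω c * η d) = ω (a * c) * η (b * d) := by
  rw [map_mul, map_mul, (H.ww c b).symm.mul_mul_mul_comm]

theorem nW_of {s t : F} (m : Mv ρ x (pa s * pb t) σ) : x ∈ 𝐖 := by
  have k : ∀ l ∈ 𝐖, Mv ρ l (pa s * pb t) σ → x ∈ 𝐖 := fun l hl m' => by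
    obtain ⟨a, d, hd, e⟩ := H.ker (l⁻¹ * x) (by simpa using (m'.inv H.rinj).mul m)
    rw [inv_mul_eq_iff_eq_mul.1 e]
    refine mul_mem hl (mul_mem (H.pW a) (cen_le_nor (mem_cen.2 ?_)))
    rintro _ ⟨w, rfl⟩
    exact (mem_cen.1 (H.wc w) d hd).symm
  have hl : ω ⟨0, 0, s, 0, 0⟩ * η ⟨0, 0, t, 0, 0⟩ ∈ 𝐖 := mul_mem (le_normalizer ⟨_, rfl⟩) (H.ηW _)
  cases σ
  exacts [k _ hl (H.wmv _ _), k _ (mul_mem hl H.fW) (by simpa using (H.wmv _ _).mul H.fmv)]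

theorem inv0 {s t : F} (m : Mv ρ x (pa s * pb t) false) (hs : s = 0 → t = 0) (e : x * x = 1 ∨ x * x = 𝐳) :
    (∃ a, x = ρ a) ∨ ∃ w w', x = ω w * η w' := by
  by_cases s0 : s = 0
  · obtain rfl := hs s0
    subst s0
    exact .inl (H.ker2 (by simpa [pa, pb] using m) (pow_two e))
  have l2 : ω ⟨0, 0, s, 0, 0⟩ * η ⟨0, 0, t, 0, 0⟩ * (ω ⟨0, 0, s, 0, 0⟩ * η ⟨0, 0, t, 0, 0⟩) = ρ 1 := by
    rw [H.ww_mul, E2.wsq, E2.wsq]; simp [← WW.one_def]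
  have m' := H.wmv ⟨0, 0, s, 0, 0⟩ ⟨0, 0, t, 0, 0⟩
  obtain ⟨u, rfl⟩ := H.ker3 m (pow_two e) m' ⟨1, l2⟩ (mul_mem (H.wc _) (H.AD (H.vA _)))
  obtain ⟨u', e1, e2⟩ := m'.2 u
  rw [inv_eq_of_mul_eq_one_left (l2.trans ρ.map_one)] at e1
  rw [← mul_assoc, e1, ← map_mul, ← ρ.map_one] at e
  obtain ⟨c, rfl⟩ : ∃ c, u' = u * zz c := by
    have k : ∀ c, u' * u = zz c → ∃ c, u' = u * zz c := fun c e => ⟨c + qf u, by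
      rw [eq_mul_inv_of_mul_eq e]
      simp [P2.mul_def, P2.inv_def, zz, qf]; ring⟩
    rcases e with e | e
    exacts [k 0 (H.rinj e), k 1 (H.rinj e)]
  have := pa_y s0 e2.of_zr
  obtain ⟨x, c, p, q, u, t, z⟩ := u
  obtain rfl : c = 0 := this
  exact .inr ⟨_, _, by rw [H.split, H.ww_mul]⟩

theorem cj_ab (m : Mv ρ x π σ) (hπ : sign π = 1) (e : x * x = 1 ∨ x * x = 𝐳) : ∃ l τ s t, Mv ρ l τ false ∧
    Mv ρ (l * x * l⁻¹) (pa s * pb t) σ ∧ (s = 0 → t = 0) := by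
  obtain ⟨τ, s, t, hτ, e1, hs⟩ := cj_inv hπ ((m.mul m).uniq H.rinj (by
    rcases e with e | e <;> rw [e]
    exacts [ρ.map_one ▸ mv_inn ρ 1, mv_inn ρ _] : Mv ρ (x * x) 1 false)).1
  obtain ⟨l, -, b⟩ := H.a8 τ hτ
  exact ⟨l, τ, s, t, b, e1 ▸ b.cj H.rinj m, hs⟩

theorem inv1 (m : Mv ρ x π false) (hπ : sign π = 1) (e : x * x = 1 ∨ x * x = 𝐳) :
    ∃ l ∈ HH ρ f D, (∃ a, l * x * l⁻¹ = ρ a) ∨ ∃ w w', l * x * l⁻¹ = ω w * η w' :=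
  let ⟨l, _, _, _, b, m', hs⟩ := H.cj_ab m hπ e
  ⟨l, H.mH b, H.inv0 m' hs (E2.sq_cj e b.comm)⟩

theorem inv2 (hW : x ∈ 𝐖) (cz : Commute x 𝐳) (e : x * x = 1 ∨ x * x = 𝐳) (c : Commute x (ρ (x1 1))) :
    ∃ l ∈ HH ρ f D, (∃ a, l * x * l⁻¹ = ρ a) ∨ ∃ w w', l * x * l⁻¹ = ω w * η w' := by
  have c1 : Commute (y⁻¹ * x * y) 𝐳 := (H.yz.inv_left.mul_left cz).mul_left H.yz
  have c2 : Commute (y⁻¹ * x * y) (ρ (zz F.w)) := (comm_cj' (H.yz' ▸ c.symm)).symm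
  obtain ⟨π, σ, hπ, a⟩ := H.mv _ (H.nw _ (mul_mem (mul_mem (inv_mem H.yW) hW) H.yW) c1 c2) c1
  obtain rfl := a.cen H.rinj c2
  obtain ⟨l, hl, r⟩ := H.inv1 a hπ (by simpa using E2.sq_cj e H.yz.inv_left)
  exact ⟨l * y⁻¹, mul_mem hl (inv_mem H.yH), by simpa [mul_assoc] using r⟩

/-- PROOF. Conjugate by `a8` so that `π = pa s * pb t` (`cj_inv`, `Mv.uniq`). `σ = false`: if `s = 0` then `x ∈ P` (`ker2`);
else `x = a s * b t * ρ u` (`ker3`), `x² ∈ ⟨z⟩` gives `Rl π false u u`, `u.y = 0` (`pa_y`), `split`. `σ = true`: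
`x = a s * b t * f * ρ u` normalises `W` and maps `x1 1` to `x1 1 * z c`, `c ∈ {0,1}` (`semi`); after conjugating by `x5 ω` it
centralises `x1 1` (copy `L4S.St4.inv`, `inv1`); `y⁻¹ x y` centralises `z, z'`, normalises `W`, so `P` (`nw`), and has a type
`(π', false)` (`mv`, `Mv.cen`): apply the first case to it. -/
theorem inv (m : Mv ρ x π σ) (hπ : sign π = 1) (e : x * x = 1 ∨ x * x = 𝐳) :
    ∃ l ∈ HH ρ f D, (∃ a, l * x * l⁻¹ = ρ a) ∨ ∃ w w', l * x * l⁻¹ = ω w * η w' := by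
  cases σ
  · exact H.inv1 m hπ e
  obtain ⟨l, τ, s, t, b, m', -⟩ := H.cj_ab m hπ e
  have e := E2.sq_cj e b.comm
  obtain ⟨c, e2⟩ := m'.to (rl_x1 s t)
  rcases H.semi m' e e2 with rfl | rfl
  · obtain ⟨l', hl, r⟩ := H.inv2 (H.nW_of m') m'.comm e (comm_of_cj (e2.trans (congrArg ρ (mul_one _))))
    exact ⟨l' * l, mul_mem hl (H.mH b), by rwa [cj_mul]⟩
  · have b' := mv_inn ρ (x5 F.w)⁻¹
    have m2 := b'.cj H.rinj m'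
    rw [one_mul, inv_one, mul_one] at m2
    obtain ⟨l', hl, r⟩ := H.inv2 (H.nW_of m2) m2.comm (E2.sq_cj e b'.comm) (comm_cj'' (comm_of_cj (by
      rw [map_inv, inv_inv, rcj, map_mul, ← conj_mul, m'.1, e2, ← map_mul, ← map_mul]; rfl)))
    exact ⟨l' * (ρ (x5 F.w)⁻¹ * l), mul_mem hl (mul_mem (H.mH b') (H.mH b)), by rwa [cj_mul, cj_mul]⟩

theorem hZ {a : F} (e : a ≠ 0) : ∃ l ∈ 𝐃, l ∈ 𝐖 ∧ l * ρ (zz a) * l⁻¹ = 𝐳 ∧ l * ρ (x1 1) * l⁻¹ = ρ (x1 a) := by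
  have hD := cen_le_nor (H.AD H.hA)
  cases a
  exacts [absurd rfl e, ⟨1, one_mem _, one_mem _, by simp; rfl, by simp; rfl⟩,
    ⟨h * h, mul_mem hD hD, mul_mem H.hW H.hW, by rw [cj_mul, H.hP, H.hP]; rfl, by rw [cj_mul, H.hP, H.hP]; rfl⟩,
    ⟨h, hD, H.hW, H.hP _, H.hP _⟩]

theorem toZ' {a c : F} (e : a ≠ 0 ∨ c ≠ 0) : ∃ l ∈ 𝐃, l ∈ 𝐖 ∧
    l * ρ ⟨a, 0, 0, 0, 0, 0, c⟩ * l⁻¹ = 𝐳 ∧ (a ≠ 0 → l * 𝐳 * l⁻¹ = ρ (x1 a)) := by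
  by_cases ha : a = 0
  · subst ha
    obtain ⟨l, h1, h2, h3, -⟩ := H.hZ (e.resolve_left (by simp))
    exact ⟨l, h1, h2, h3, fun c => absurd rfl c⟩
  obtain ⟨l, h1, h2, h3, h4⟩ := H.hZ ha
  have nv : ∀ s t, n * ρ ⟨s, 0, 0, 0, 0, 0, t⟩ * n⁻¹ = ρ ⟨t, 0, 0, 0, 0, 0, s⟩ := fun s t => by
    rw [H.rw, H.rw, H.nω]; simp
  refine ⟨l * (n * ρ (x5 (c / a))), mul_mem h1 (cen_le_nor (mul_mem (H.AD H.nA) (H.rc _))),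
    mul_mem h2 (mul_mem H.nW (H.pW _)), ?_, fun _ => ?_⟩
  · rw [cj_mul, cj_mul, rcj, show (⟨a, 0, 0, 0, 0, 0, c⟩ * zz (bf (x5 (c / a)) ⟨a, 0, 0, 0, 0, 0, c⟩) : P2) =
      ⟨a, 0, 0, 0, 0, 0, 0⟩ by simp [P2.mul_def, zz, bf, x5, div_mul_cancel₀ c ha], nv]
    exact h3
  · rw [cj_mul, cj_mul, cj_of_comm (pz ρ _ 1), zz, nv]
    exact h4

theorem rs_x {b : P2} {c : F} (hπ : sign π = 1) (hc : c ≠ 0) (r : Rl π false b (x1 c)) : Rs1 ρ D (ρ b) := by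
  obtain ⟨l, hl, -, e⟩ := H.mv_to hπ (fun e => hc (congrArg P2.x e)) r
  obtain ⟨l', h1, -, e', -⟩ := H.toZ' (a := c) (c := 0) (.inl hc)
  exact .of_cj (cen_le_nor hl) ⟨l', h1, .inl (e ▸ e')⟩

theorem rs_e {b : P2} (r : ∃ π, sign π = 1 ∧ Rl π false b e0) : ∃ l ∈ 𝐃, l * ρ b * l⁻¹ = ρ e0 :=
  let ⟨_, hπ, r⟩ := r
  let ⟨l, hl, _, e⟩ := H.mv_to hπ (by decide) r
  ⟨l, cen_le_nor hl, e⟩

theorem rs_r {b : P2} (r : ∃ π, sign π = 1 ∧ Rl π false b (rr 1)) : ∃ l ∈ HH ρ f D, l * ρ b * l⁻¹ = 𝐫 :=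
  let ⟨_, hπ, r⟩ := r
  let ⟨l, _, m, e⟩ := H.mv_to hπ (by decide) r
  ⟨l, H.mH m, e⟩

/-- by `sing`, `mv_to`, `hP`; `x1 c` is moved to `zz c` by `n` (`nω`) -/
theorem clsP (e : a * a = 1) (h1 : a ≠ 1) :
    (∃ l ∈ 𝐃, l * ρ a * l⁻¹ = 𝐳 ∨ l * ρ a * l⁻¹ = ρ e0) ∨ ∃ l ∈ HH ρ f D, l * ρ a * l⁻¹ = 𝐫 := by
  rcases sing (zz_inj ((sq_eq a).symm.trans e)) with e | ⟨π, c, hπ, hc, r⟩ | r | r
  · obtain ⟨l, hl, -, e', -⟩ := H.toZ' (a := 0) (c := a.z) (.inr fun c => h1 (by rw [e, c]; rfl))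
    exact .inl ⟨l, hl, .inl (by rw [e]; exact e')⟩
  exacts [.inl (H.rs_x hπ hc r), .inr (H.rs_r r), .inl ((H.rs_e r).imp fun _ c => ⟨c.1, .inr c.2⟩)]

theorem winv_cj {θ : WW →* G} (hθ : Function.Injective θ) (v : ∀ x z, θ (vv x z) = ρ ⟨x, 0, 0, 0, 0, 0, z⟩) {l : G}
    (hl : l ∈ 𝐖) {w w' : WW} (e : l * θ w * l⁻¹ = θ w') (i : WInv w) : WInv w' := by
  refine ⟨hθ (by rw [map_mul, ← e, conj_mul, ← map_mul, i.1]; simp), fun c => i.2 ?_⟩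
  obtain ⟨c', z', e'⟩ := H.tauV (inv_mem hl) w'.x w'.z
  rw [← v, ← c, ← e, ← v] at e'
  rw [hθ (show θ w = _ by rw [← e']; group)]; rfl

theorem clsW0 {p q x z : F} (i : WInv ⟨p, q, 0, x, z⟩) : ∃ l ∈ HH ρ f D, l * ω ⟨p, q, 0, x, z⟩ * l⁻¹ = 𝐫 := by
  rw [winv_iff] at i
  exact H.rw x p q z ▸ H.rs_r (to_r (by simpa [mul_comm] using i.1.2) (by simpa using i.2))

/-- copy `L4S.St4.clsW` (`w.m ≠ 0`); `w.m = 0`: `to_r` -/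
theorem clsW {w : WW} (e : w * w = 1) (hw : w ≠ vv w.x w.z) : ∃ l ∈ HH ρ f D, l * ω w * l⁻¹ = 𝐫 := by
  obtain ⟨p, q, m, x, z⟩ := w
  by_cases hm : m = 0
  · subst hm
    exact H.clsW0 ⟨e, hw⟩
  obtain ⟨e0, w0, h0, h1, h2⟩ : ∃ e0 w0 : WW, (∀ w : WW, E2.cx w e0 = 0 → w.m = 0) ∧ y * ω e0 * y⁻¹ = ω w0 ∧
      w0.m ≠ 0 ∧ e0 * e0 = 1 := by
    obtain ⟨⟨p1, q1, m1, x1, z1⟩, e1⟩ := nor_cjA H.yW ⟨⟨1, 0, 0, 0, 0⟩, rfl⟩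
    obtain ⟨⟨p2, q2, m2, x2, z2⟩, e2⟩ := nor_cjA H.yW ⟨⟨0, F.w, 0, 0, 0⟩, rfl⟩
    by_cases k1 : m1 = 0
    · refine ⟨_, _, fun w => by simp [E2.cx, show F.w ≠ 0 by decide], e2.symm, ?_, by decide⟩
      rintro rfl
      subst k1
      have := H.yz'
      rw [zz, ← H.ωv, show vv 0 F.w = ⟨0, F.w, 0, 0, 0⟩⁻¹ * (⟨1, 0, 0, 0, 0⟩ * ⟨0, F.w, 0, 0, 0⟩ * ⟨1, 0, 0, 0, 0⟩⁻¹)
        by decide, map_mul, map_mul, map_mul, map_inv, map_inv, ← conj_mul, ← conj_mul, ← conj_mul, ← conj_inv,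
        ← conj_inv, ← e1, ← e2, ← map_inv, ← map_inv, ← map_mul, ← map_mul, ← map_mul, WW.conj_eq,
        inv_mul_cancel_left, H.ωv] at this
      simpa [WW.cx, P2.x1] using congrArg P2.x (H.rinj this)
    · exact ⟨_, _, fun w => by simp [E2.cx], e1.symm, k1, by decide⟩
  have h3 : w0 * w0 = 1 := H.winj (by rw [map_mul, ← h1, conj_mul, ← map_mul, h2.2]; simp)
  obtain ⟨c, k1, k2⟩ := E2.w_trans p q m w0.p w0.q w0.m hm h2.1 (congrArg WW.x ((E2.wsq _).symm.trans e))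
    (congrArg WW.x ((E2.wsq _).symm.trans h3))
  obtain ⟨x', z', e1⟩ := H.yw c p q m x z
  have c1 : Commute (ω ⟨p + c * m * m, q + c * m, m, x', z'⟩) (ω w0) :=
    Commute.map ((E2.comm_iff ⟨p + c * m * m, q + c * m, m, x', z'⟩ w0).2 ⟨k1, k2⟩) ω
  obtain ⟨⟨p1, q1, m1, x1, z1⟩, e2⟩ := nor_cjA (inv_mem H.yW) ⟨⟨p + c * m * m, q + c * m, m, x', z'⟩, rfl⟩
  have i := H.winv_cj H.winj H.ωv (inv_mem H.yW) e2.symm (H.winv_cj H.winj H.ωv (H.pW _) e1 ⟨e, hw⟩)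
  rw [inv_inv] at e2
  obtain rfl : m1 = 0 := h0 _ ((E2.comm_iff ⟨p1, q1, m1, x1, z1⟩ e0).1 (H.winj (by
    rw [map_mul, map_mul, e2]; exact (comm_cj' (h1 ▸ c1.symm)).symm))).1
  obtain ⟨l, hl, e4⟩ := H.clsW0 i
  exact ⟨l * (y⁻¹ * ρ (x5 c)), mul_mem hl (mul_mem (inv_mem H.yH) (H.mH (mv_inn ρ _))), by
    rw [cj_mul, cj_mul, e1, inv_inv, ← e2, e4]⟩

/-- PROOF. `l = h ^ i * n * x5 (c / a)` maps `v = ρ ⟨a,0,0,0,0,0,c⟩ ↦ x1 a ↦ zz a ↦ z` (if `ω ^ i a = 1`) and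
`z ↦ z ↦ x1 1 ↦ x1 (ω ^ (2 i)) = x1 a`; it normalises `W`, `W'` (`nww`) and `D`. For `a = 0` take `l = h ^ i`. -/
theorem toZ {a c : F} (e : a ≠ 0 ∨ c ≠ 0) : ∃ l ∈ 𝐃, l ∈ normalizer (ω.range : Set G) ∧
    l * ρ ⟨a, 0, 0, 0, 0, 0, c⟩ * l⁻¹ = 𝐳 ∧ (a ≠ 0 → l * 𝐳 * l⁻¹ = ρ (x1 a)) := H.toZ' e

theorem clsW' {w : WW} (e : ω w * ω w = 1) (h1 : ω w ≠ 1) : Rs ρ f D (ω w) := by
  by_cases hw : w = vv w.x w.z
  · rw [hw, H.ωv] at e h1 ⊢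
    exact H.clsP (H.rinj (by rw [map_mul, e, map_one])) fun c => h1 (by rw [c, map_one])
  · exact .inr (H.clsW (H.winj (by rw [map_mul, e, map_one])) hw)

theorem sq_ww {w w' : WW} (e : ω w * η w' * (ω w * η w') = 1) : w * w = w' * w' := by
  rw [H.ww_mul, WW.sq_eq, WW.sq_eq w', H.ωv, H.ηv, ← map_mul, ← ρ.map_one] at e
  have k : ∀ a b : F, a + b = 0 → a = b := by decide
  rw [WW.sq_eq, WW.sq_eq w']
  exact congrArg₂ vv (k _ _ (congrArg P2.x (H.rinj e)))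
    (k _ _ (by simpa [P2.mul_def, P2.one_def] using congrArg P2.z (H.rinj e)))

theorem sqz {w w' : WW} {l : G} (hl : l ∈ 𝐖) (e : w * w = w' * w') (e1 : l * ω (w * w) * l⁻¹ = 𝐳) :
    ∃ c p u d, p ≠ 0 ∧ u ≠ 0 ∧ l * (ω w * η w') * l⁻¹ = ρ ⟨c, 0, p, p * p, u, u * u, d⟩ := by
  obtain ⟨⟨p, q, m, x, z⟩, e2⟩ := nor_cjA hl ⟨w, rfl⟩
  obtain ⟨⟨p', q', m', x', z'⟩, e3⟩ := nor_cjA (H.nww hl) ⟨w', rfl⟩
  have e4 : l * η (w' * w') * l⁻¹ = 𝐳 := by rwa [← e, WW.sq_eq, H.ηv, ← H.ωv, ← WW.sq_eq]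
  rw [map_mul, ← conj_mul, ← e2, ← map_mul, WW.sq_eq, zz, ← H.ωv] at e1
  rw [map_mul, ← conj_mul, ← e3, ← map_mul, WW.sq_eq, zz, ← H.ηv] at e4
  obtain ⟨rfl, hp, rfl⟩ := E2.wsq_z p q m (WW.vv_inj (H.winj e1)).1 (WW.vv_inj (H.winj e1)).2
  obtain ⟨rfl, hu, rfl⟩ := E2.wsq_z p' q' m' (WW.vv_inj (H.jnj e4)).1 (WW.vv_inj (H.jnj e4)).2
  exact ⟨x + x', p, p', _, hp, hu, by
    rw [← conj_mul, ← e2, ← e3, ← H.rw, ← H.rη, ← map_mul]; simp only [P2.mul_def, add_zero, zero_add]; rfl⟩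

theorem rs_tr {w w₁ w' : WW} {l : G} (hD : l ∈ 𝐃) (hl : l ∈ 𝐖) (e : l * ω w * l⁻¹ = ω w₁) (i : WInv w')
    (r : ∀ w', WInv w' → Rs1 ρ D (ω w₁ * η w')) : Rs1 ρ D (ω w * η w') := by
  obtain ⟨w₂, e2⟩ := nor_cjA (H.nww hl) ⟨w', rfl⟩
  exact .of_cj hD (by rw [← conj_mul, e, ← e2]; exact r _ (H.winv_cj H.jnj H.ηv hl e2.symm i))

theorem nxD (c : F) : n * ρ (x5 c) ∈ 𝐃 := cen_le_nor (mul_mem (H.AD H.nA) (H.rc _))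

theorem rsA {p x z : F} (hp : p ≠ 0) (w' : WW) (i : WInv w') : Rs1 ρ D (ω ⟨p, 0, 0, x, z⟩ * η w') := by
  have k : ∀ x z p' q' x' z', WInv ⟨p', q', 0, x', z'⟩ → Rs1 ρ D (ω ⟨p, 0, 0, x, z⟩ * η ⟨p', q', 0, x', z'⟩) :=
    fun x z p' q' x' z' i => by
      rw [winv_iff] at i
      rw [← H.rw, ← H.rη, ← map_mul]
      simp only [P2.mul_def, add_zero, zero_add]
      exact (H.rs_e (to_e hp (by simpa [mul_comm] using i.1.2) (by simpa using i.2))).imp fun _ c => ⟨c.1, .inr c.2⟩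
  obtain ⟨p', q', m, x', z'⟩ := w'
  by_cases hm : m = 0
  · subst hm
    exact k _ _ _ _ _ _ i
  obtain ⟨c, e1, e2⟩ := winv_cases p' q' m (winv_iff.1 i).1 hm
  obtain ⟨x1, z1, e3⟩ := H.yw c p 0 0 x z
  obtain ⟨x2, z2, e4⟩ := H.yw' c p' q' m x' z'
  refine .of_cj (H.nxD c) ?_
  rw [cj_mul, ← conj_mul (b := ρ (x5 c)), e3, e4, ← conj_mul, H.nω, H.nη, e1, e2]
  simp only [mul_zero, add_zero]
  exact k _ _ _ _ _ _ (winv_iff.2 (by simpa using hm))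

theorem rsB {q x z : F} (hq : q ≠ 0) (w' : WW) (i : WInv w') : Rs1 ρ D (ω ⟨0, q, 0, x, z⟩ * η w') := by
  obtain ⟨c, e⟩ := H.kmv.to (rl_pk x q z)
  exact H.rs_tr (w₁ := ⟨q, 0, 0, x, c⟩) (cen_le_nor H.kc) H.kW
    (by rw [← H.rw, e, ← H.rw]; simp [P2.mul_def, zz]) i (H.rsA hq)

theorem rsC {w w' : WW} (i : WInv w) (i' : WInv w') : Rs1 ρ D (ω w * η w') := by
  obtain ⟨p, q, m, x, z⟩ := w
  rw [winv_iff] at i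
  by_cases hm : m = 0
  · subst hm
    by_cases hp : p = 0
    · subst hp
      exact H.rsB (by simpa using i.2) _ i'
    · obtain rfl : q = 0 := by simpa [hp] using i.1.2
      exact H.rsA hp _ i'
  obtain ⟨c, e1, e2⟩ := winv_cases p q m i.1 hm
  obtain ⟨x1, z1, e3⟩ := H.yw c p q m x z
  exact H.rs_tr (H.nxD c) (mul_mem H.nW (H.pW _)) (by rw [cj_mul, e3, H.nω, e1, e2]) i' (H.rsB hm)

/-- PROOF. By `inv` let `x = ω w * η w'`, so `w * w = w' * w'`. If this is `v ≠ 1`, move `v` to `z` (`toZ`); then `wsq_z` gives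
`x = ρ ⟨c,0,p,p²,u,u²,*⟩`, `p, u ≠ 0`, conjugate to `x1 1` (`to_x`) or `e0` (`to_e'`). Let `w² = w'² = 1`. `w' ∈ V`: `x ∈ W`, use
`clsW` or `clsP` (`toZ`); `w ∈ V`: conjugate by `j ∈ HH`. Both `∉ V`: the involutions of `W \ V` have `(p,q,m) = (p,0,0)`,
`(0,q,0)` or `(c m², c m, m)`. `x5 c` (`yw`) moves the last to `(0,0,m)`, `n` (`nω`) to `(0,m,0)`, `k` to `(m,0,0)`. All normalise `W'`
(`nww`, `ww_inj`). With `w = (p,0,0)`, which is kept by `x5 c` and `n`, move `w'` to `m = 0` (`yw'`, `nη`); then `to_e`. -/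
theorem cls (hx : x ∈ NN ρ) (e : x * x = 1) (h1 : x ≠ 1) :
    (∃ l ∈ 𝐃, l * x * l⁻¹ = 𝐳 ∨ l * x * l⁻¹ = ρ e0) ∨ ∃ l ∈ HH ρ f D, l * x * l⁻¹ = 𝐫 := by
  obtain ⟨π, σ, hπ, m⟩ := H.mem_NN.1 hx
  obtain ⟨l, hl, c⟩ := H.inv m hπ (.inl e)
  refine Rs.of_cj hl ?_
  replace e : l * x * l⁻¹ * (l * x * l⁻¹) = 1 := by rw [conj_mul, e]; simp
  replace h1 : l * x * l⁻¹ ≠ 1 := by simpa using h1
  rcases c with ⟨a, c⟩ | ⟨w, w', c⟩ <;> rw [c] at e h1 ⊢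
  · exact H.clsP (H.rinj (by rw [map_mul, e, map_one])) fun c => h1 (by rw [c, map_one])
  have e1 := H.sq_ww e
  by_cases w2 : w * w = 1
  swap
  · obtain ⟨l, hD, hW, e2, -⟩ := H.toZ' (a := (w * w).x) (c := (w * w).z) (by
      by_contra! k
      exact w2 (by rw [WW.sq_eq] at k ⊢; exact congrArg₂ vv k.1 k.2))
    obtain ⟨c, p, u, d, hp, hu, e3⟩ := H.sqz hW e1 (by rw [← e2, ← H.ωv, WW.sq_eq]; rfl)
    refine .inl (.of_cj hD (e3 ▸ ?_))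
    by_cases hc : c = 0 ∨ c = 1
    · obtain ⟨π, hπ, r⟩ := to_x (a := ⟨c, 0, p, p * p, u, u * u, d⟩) ⟨hc, .inl rfl, rfl, rfl⟩ (by
        simp only [qf]; clear e3 hc; revert c p u; decide) fun e => hp (congrArg P2.p e)
      exact H.rs_x hπ one_ne_zero r
    · exact (H.rs_e (to_e' (not_or.1 hc).1 (not_or.1 hc).2 hp hu)).imp fun _ c => ⟨c.1, .inr c.2⟩
  by_cases v' : w' = vv w'.x w'.z
  · rw [v', H.ηv, ← H.ωv, ← map_mul] at e h1 ⊢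
    exact H.clsW' e h1
  by_cases v : w = vv w.x w.z
  · rw [v, H.ωv, ← H.ηv, ← map_mul] at e h1 ⊢
    obtain ⟨w₁, e2⟩ := H.jW.le (cj_mem_cj.2 ⟨vv w.x w.z * w', rfl⟩)
    exact .of_cj (H.mH H.jmv) (e2 ▸ H.clsW' (by rw [e2, conj_mul, e]; simp) (by simpa [e2] using h1))
  exact .inl (H.rsC ⟨w2, v⟩ ⟨e1 ▸ w2, v'⟩)

theorem inv3 (hx : x ∈ NN ρ) (hD : IsD A x) : ∃ l ∈ HH ρ f D, l * x * l⁻¹ = 𝐫 :=
  (H.cls hx hD.1 hD.2.1).resolve_left fun ⟨l, _, e⟩ =>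
    e.elim (fun e => H.nD (e ▸ hD.cj l)) fun e => H.eD (e ▸ hD.cj l)

/-- PROOF. After `inv`: for `ρ a` take `rr p`, `p ≠ 0`, `a.q p ∈ {0,1}` (`to_r`, `mv_to`); for `ω w * η w'` with
`(w * w).x ∈ {0,1}` some involution `e ∈ WW \ V` has `cx w e = 0`, `cz w e ∈ {0,1}` (`decide`), use `clsW`, `ww`. -/
theorem star (hx : x ∈ NN ρ) (e : x * x = 1 ∨ x * x = 𝐳) : ∃ l ∈ HH ρ f D,
    Eqv 𝐳 (x * (l * 𝐫 * l⁻¹) * x⁻¹) (l * 𝐫 * l⁻¹) ∨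
      ∃ w w', l * x * l⁻¹ = ω w * η w' ∧ (w * w).x ≠ 0 ∧ (w * w).x ≠ 1 := by
  obtain ⟨π, σ, hπ, m⟩ := H.mem_NN.1 hx
  obtain ⟨l, hl, c⟩ := H.inv m hπ e
  have lz : Commute l 𝐳 := mem_centralizer_singleton_iff.1 hl.2
  have k : ∀ g, (∃ l' ∈ HH ρ f D, l' * g * l'⁻¹ = 𝐫) → Eqv 𝐳 (l * x * l⁻¹ * g * (l * x * l⁻¹)⁻¹) g →
      ∃ l ∈ HH ρ f D, Eqv 𝐳 (x * (l * 𝐫 * l⁻¹) * x⁻¹) (l * 𝐫 * l⁻¹) ∨
        ∃ w w', l * x * l⁻¹ = ω w * η w' ∧ (w * w).x ≠ 0 ∧ (w * w).x ≠ 1 := fun g ⟨l', hl', e1⟩ e2 =>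
    ⟨l⁻¹ * l'⁻¹, mul_mem (inv_mem hl) (inv_mem hl'), .inl (by simpa [← e1, mul_assoc] using e2.conj lz.inv_left)⟩
  rcases c with ⟨a, c⟩ | ⟨⟨p, q, m, s, t⟩, w', c⟩
  · obtain ⟨p, hp, e⟩ := (by decide : ∀ q : F, ∃ p, p ≠ 0 ∧ (q * p = 0 ∨ q * p = 1)) a.q
    exact k (ρ (rr p)) (H.rs_r (to_r (mul_zero p) (.inl hp))) (by
      rw [c, rcj]; exact eqv_of (by simpa [bf, rr] using e))
  by_cases hw : m * p + m * m * q = 0 ∨ m * p + m * m * q = 1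
  · obtain ⟨p', q', m', i, e1, e2⟩ := star_ex p q m hw
    have i := (winv_iff (x := 0) (z := 0)).2 i
    refine k _ (H.clsW i.1 i.2) ?_
    rw [c, cj_mul, cj_of_comm (H.ww _ w').symm, ← map_inv, ← map_mul, ← map_mul, WW.conj_eq, map_mul, H.ωv,
      show WW.cx ⟨p, q, m, s, t⟩ ⟨p', q', m', 0, 0⟩ = 0 from e1]
    rcases e2 with e2 | e2 <;> rw [show WW.cz ⟨p, q, m, s, t⟩ ⟨p', q', m', 0, 0⟩ = _ from e2]
    exacts [.inl (by rw [← P2.one_def, map_one, mul_one]), .inr rfl]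
  · exact ⟨l, hl, .inr ⟨_, _, c, by rw [E2.wsq]; exact not_or.1 hw⟩⟩

/-- PROOF. `w² = w'² = vv a c`; with `l` from `toZ`, `l x l⁻¹ = ρ ⟨c,0,p,p²,u,u²,*⟩` and `l (x z) l⁻¹` has `c + a` for `c`; one of
`c`, `c + a` is not in `{0,1}`: `to_e'`. -/
theorem a4 {w w' : WW} (e : ω w * η w' * (ω w * η w') = 1) (h0 : (w * w).x ≠ 0) (h1 : (w * w).x ≠ 1) :
    IsConj (ω w * η w') (ρ e0) ∨ IsConj (ω w * η w' * 𝐳) (ρ e0) := by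
  obtain ⟨l, -, hW, e2, e4⟩ := H.toZ' (a := (w * w).x) (c := (w * w).z) (.inl h0)
  obtain ⟨c, p, u, d, hp, hu, e3⟩ := H.sqz hW (H.sq_ww e) (by rw [← e2, ← H.ωv, WW.sq_eq]; rfl)
  have k : ∀ g c d, l * g * l⁻¹ = ρ ⟨c, 0, p, p * p, u, u * u, d⟩ → c ≠ 0 ∧ c ≠ 1 → IsConj g (ρ e0) :=
    fun g c d e hc => let ⟨l', _, e'⟩ := H.rs_e (to_e' (z := d) hc.1 hc.2 hp hu)
      isConj_iff.2 ⟨l' * l, by rw [cj_mul, e, e']⟩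
  refine ((by decide : ∀ c a : F, a ≠ 0 → a ≠ 1 → (c ≠ 0 ∧ c ≠ 1) ∨ (c + a ≠ 0 ∧ c + a ≠ 1)) c _ h0 h1).imp
    (k _ _ _ e3) (k _ _ d ?_)
  rw [← conj_mul, e3, e4 h0, ← map_mul]; simp [P2.mul_def, x1]

end St4

end Cfsg.Agent.G4S
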