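import Cfsg.Agent.G4S.Defs
import Cfsg.Agent.L4S.E2b

/-! Standard subgroups `G₂(4)`, the Conway case: the model `2^{2+12}` and the local configurations. -/

set_option autoImplicit false
set_option synthInstance.maxSize 4000
set_option maxRecDepth 100000

namespace Cfsg.Agent.G4S

open Subgroup L4S Equiv
open F (fr)
open TT (Eqv)

/-- the group `2^{2+12}`; it is mapped to `ψ ⟨x,y,u,v,z⟩ * r p * s q` -/
@[ext] structure P2 where
  x : F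
  y : F
  p : F
  q : F
  u : F
  v : F
  z : F
  deriving DecidableEq

namespace P2

instance decAll (P : P2 → Prop) [DecidablePred P] : Decidable (∀ a, P a) :=
  decidable_of_iff (∀ x y p q u t z, P ⟨x, y, p, q, u, t, z⟩)
    ⟨fun h a => h a.x a.y a.p a.q a.u a.v a.z, fun h _ _ _ _ _ _ _ => h _⟩

instance decEx (P : P2 → Prop) [DecidablePred P] : Decidable (∃ a, P a) :=
  decidable_of_iff (∃ x y p q u t z, P ⟨x, y, p, q, u, t, z⟩)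
    ⟨fun ⟨_, _, _, _, _, _, _, h⟩ => ⟨_, h⟩, fun ⟨a, h⟩ => ⟨a.x, a.y, a.p, a.q, a.u, a.v, a.z, h⟩⟩

instance : Mul P2 := ⟨fun a b => ⟨a.x + b.x, a.y + b.y, a.p + b.p, a.q + b.q, a.u + b.u, a.v + b.v,
  a.z + b.z + a.x * b.y + a.q * b.p + a.v * b.u⟩⟩
instance : One P2 := ⟨⟨0, 0, 0, 0, 0, 0, 0⟩⟩
instance : Inv P2 := ⟨fun a => ⟨a.x, a.y, a.p, a.q, a.u, a.v, a.z + a.x * a.y + a.q * a.p + a.v * a.u⟩⟩

theorem mul_def (a b : P2) : a * b = ⟨a.x + b.x, a.y + b.y, a.p + b.p, a.q + b.q, a.u + b.u, a.v + b.v,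
  a.z + b.z + a.x * b.y + a.q * b.p + a.v * b.u⟩ := rfl
theorem one_def : (1 : P2) = ⟨0, 0, 0, 0, 0, 0, 0⟩ := rfl
theorem inv_def (a : P2) :
    a⁻¹ = ⟨a.x, a.y, a.p, a.q, a.u, a.v, a.z + a.x * a.y + a.q * a.p + a.v * a.u⟩ := rfl

instance : Group P2 := Group.ofLeftAxioms
  (fun a b c => by simp only [mul_def, P2.mk.injEq]; refine ⟨?_, ?_, ?_, ?_, ?_, ?_, ?_⟩ <;> ring)
  (fun a => by simp [mul_def, one_def]) (fun a => by
    simp only [mul_def, one_def, inv_def, P2.mk.injEq, F.add_self, true_and]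
    linear_combination (a.z + a.x * a.y + a.q * a.p + a.v * a.u) * F.two)

instance : Fintype P2 := Fintype.ofEquiv (F × F × F × F × F × F × F)
  ⟨fun p => ⟨p.1, p.2.1, p.2.2.1, p.2.2.2.1, p.2.2.2.2.1, p.2.2.2.2.2.1, p.2.2.2.2.2.2⟩,
    fun a => (a.x, a.y, a.p, a.q, a.u, a.v, a.z), fun _ => rfl, fun _ => rfl⟩

/-- the centre -/
def zz (c : F) : P2 := ⟨0, 0, 0, 0, 0, 0, c⟩
/-- the elements of `R` -/
def rr (p : F) : P2 := ⟨0, 0, p, 0, 0, 0, 0⟩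
/-- root elements -/
def x1 (c : F) : P2 := ⟨c, 0, 0, 0, 0, 0, 0⟩
/-- root elements -/
def x5 (c : F) : P2 := ⟨0, c, 0, 0, 0, 0, 0⟩
/-- the third class of involutions -/
def e0 : P2 := ⟨0, 0, 1, 0, 1, 0, 0⟩
/-- the commutator form -/
def bf (a b : P2) : F := a.x * b.y + a.y * b.x + a.p * b.q + a.q * b.p + a.u * b.v + a.v * b.u
/-- the squaring map -/
def qf (a : P2) : F := a.x * a.y + a.p * a.q + a.u * a.v

/-- eight coordinates with `t 0 + .. + t 4 = 0 = t 5 + t 6 + t 7`, to be read modulo constants -/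
def tt : Fin 8 → P2 → F
  | ⟨0, _⟩, a => a.y
  | ⟨1, _⟩, a => a.x
  | ⟨2, _⟩, a => a.x + a.y + a.p + a.q
  | ⟨3, _⟩, a => a.x + a.y + a.p * F.v + a.q * F.w
  | ⟨4, _⟩, a => a.x + a.y + a.p * F.w + a.q * F.v
  | ⟨5, _⟩, a => a.u + a.v
  | ⟨6, _⟩, a => a.u * F.v + a.v * F.w
  | _, a => a.u * F.w + a.v * F.v

theorem conj_eq (a b : P2) : a * b * a⁻¹ = b * zz (bf a b) := by
  simp only [mul_def, inv_def, zz, bf, P2.mk.injEq]
  refine ⟨?_, ?_, ?_, ?_, ?_, ?_, ?_⟩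
  · linear_combination a.x * F.two
  · linear_combination a.y * F.two
  · linear_combination a.p * F.two
  · linear_combination a.q * F.two
  · linear_combination a.u * F.two
  · linear_combination a.v * F.two
  · linear_combination (a.z + a.x * a.y + a.q * a.p + a.v * a.u) * F.two

theorem sq_eq (a : P2) : a * a = zz (qf a) := by
  simp only [mul_def, zz, qf, P2.mk.injEq, F.add_self, true_and]; ring

theorem tt_mul (i : Fin 8) (a b : P2) : tt i (a * b) = tt i a + tt i b := by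
  fin_cases i <;> simp only [tt, mul_def] <;> ring

theorem tt_z (i : Fin 8) (a : P2) (c : F) : tt i ⟨a.x, a.y, a.p, a.q, a.u, a.v, c⟩ = tt i a := by
  fin_cases i <;> rfl

theorem tt_inv (i : Fin 8) (a : P2) : tt i a⁻¹ = tt i a := tt_z i a _

theorem tt_zz : ∀ (i : Fin 8) (c : F), tt i (zz c) = 0 := by decide

theorem tt_const0 : ∀ c x y p q u t : F, (∀ i, tt i ⟨x, y, p, q, u, t, 0⟩ = c) →
    c = 0 ∧ x = 0 ∧ y = 0 ∧ p = 0 ∧ q = 0 ∧ u = 0 ∧ t = 0 := by decide +kernel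

theorem tt_const {a : P2} {c : F} (e : ∀ i, tt i a = c) : c = 0 ∧ a = zz a.z := by
  obtain ⟨h, h1, h2, h3, h4, h5, h6⟩ := tt_const0 c a.x a.y a.p a.q a.u a.v fun i => (tt_z i a 0).trans (e i)
  exact ⟨h, P2.ext h1 h2 h3 h4 h5 h6 rfl⟩

theorem zz_mul (c d : F) : zz c * zz d = zz (c + d) := by simp [zz, mul_def]

theorem zz_comm (c : F) (a : P2) : zz c * a = a * zz c := by simp [zz, mul_def, add_comm]

theorem zz_zero : zz 0 = 1 := rfl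

theorem zz_inj {c d : F} (e : zz c = zz d) : c = d := congrArg P2.z e

theorem pow4 (a : P2) : a ^ 4 = 1 := by
  rw [show a ^ 4 = a * a * (a * a) by simp [pow_succ, mul_assoc], sq_eq a, zz_mul, F.add_self]; rfl

theorem bf_zero {a b : P2} (e : a * b = b * a) : bf a b = 0 := by
  have := conj_eq a b
  rw [e, mul_inv_cancel_right, left_eq_mul] at this
  exact congrArg P2.z this

theorem bf_surj {a : P2} (ha : a ≠ zz a.z) (c : F) : ∃ b, bf b a = c := by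
  by_contra! k
  have e : ∀ x : F, (∀ d, d * x ≠ c) → x = 0 := fun x h => by_contra fun n => h (c / x) (div_mul_cancel₀ c n)
  refine ha (P2.ext (e _ fun d => ?_) (e _ fun d => ?_) (e _ fun d => ?_) (e _ fun d => ?_) (e _ fun d => ?_)
    (e _ fun d => ?_) rfl)
  exacts [by simpa [bf] using k ⟨0, d, 0, 0, 0, 0, 0⟩, by simpa [bf] using k ⟨d, 0, 0, 0, 0, 0, 0⟩,
    by simpa [bf] using k ⟨0, 0, 0, d, 0, 0, 0⟩, by simpa [bf] using k ⟨0, 0, d, 0, 0, 0, 0⟩,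
    by simpa [bf] using k ⟨0, 0, 0, 0, 0, d, 0⟩, by simpa [bf] using k ⟨0, 0, 0, 0, d, 0, 0⟩]

theorem card : Nat.card P2 = 16384 := by rw [Nat.card_eq_fintype_card]; rfl

/-- the centraliser of `zz ω` in the extraspecial group -/
def Q0 : Subgroup P2 where
  carrier := {a | (a.x = 0 ∨ a.x = 1) ∧ (a.y = 0 ∨ a.y = 1) ∧ a.q = a.p * a.p ∧ a.v = a.u * a.u}
  one_mem' := by decide
  mul_mem' := fun {a b} ⟨a1, a2, a3, a4⟩ ⟨b1, b2, b3, b4⟩ =>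
    have k : ∀ s t : F, s = 0 ∨ s = 1 → t = 0 ∨ t = 1 → s + t = 0 ∨ s + t = 1 := by decide
    have l : ∀ s t : F, s * s + t * t = (s + t) * (s + t) := by decide
    ⟨k _ _ a1 b1, k _ _ a2 b2, (congrArg₂ (· + ·) a3 b3).trans (l _ _), (congrArg₂ (· + ·) a4 b4).trans (l _ _)⟩
  inv_mem' := fun {a} ha => ha

theorem mem_Q0' {a : P2} : a ∈ Q0 ↔ (a.x = 0 ∨ a.x = 1) ∧ (a.y = 0 ∨ a.y = 1) ∧ a.q = a.p * a.p ∧ a.v = a.u * a.u :=
  Iff.rfl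

instance (a : P2) : Decidable (a ∈ Q0) := decidable_of_iff _ mem_Q0'.symm

theorem mem_Q00 : ∀ c x y p q u t : F, ((∀ i, tt i ⟨x, y, p, q, u, t, 0⟩ = c ∨ tt i ⟨x, y, p, q, u, t, 0⟩ = c + 1) ↔
    (c = 0 ∨ c = 1) ∧ (⟨x, y, p, q, u, t, 0⟩ : P2) ∈ Q0) := by decide +kernel

theorem mem_Q0 {a : P2} : a ∈ Q0 ↔ ∀ i, tt i a = 0 ∨ tt i a = 1 := by
  have := mem_Q00 0 a.x a.y a.p a.q a.u a.v
  simp only [tt_z, zero_add, true_or, true_and] at this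
  exact this.symm

theorem zz_mem (c : F) : zz c ∈ Q0 := by simp [mem_Q0', zz]

end P2

open P2

theorem fs_xor : ∀ σ σ' c, fs (xor σ σ') c = fs σ (fs σ' c) := by decide
theorem fs_fs : ∀ σ c, fs σ (fs σ c) = c := by decide
theorem fs_add : ∀ σ c d, fs σ (c + d) = fs σ c + fs σ d := by decide
theorem fs_zero : ∀ σ, fs σ 0 = 0 := by decide
theorem fs_one : ∀ σ, fs σ 1 = 1 := by decide

/-- `b` is the image of `a` under the permutation `π` of the coordinates and the field automorphism `σ` -/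
def Rl (π : Perm (Fin 8)) (σ : Bool) (a b : P2) : Prop := ∃ c, ∀ i, tt (π i) b = fs σ (tt i a) + c

instance (π : Perm (Fin 8)) (σ : Bool) (a b : P2) : Decidable (Rl π σ a b) := by unfold Rl; infer_instance

section
variable {π π' : Perm (Fin 8)} {σ σ' : Bool} {a a' b b' c : P2}

theorem Rl.trans (h' : Rl π' σ' a b) (h : Rl π σ b c) : Rl (π * π') (xor σ σ') a c :=
  let ⟨k', e'⟩ := h'; let ⟨k, e⟩ := h
  ⟨fs σ k' + k, fun i => by rw [Perm.mul_apply, e, e', fs_add, fs_xor, add_assoc]⟩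

theorem Rl.symm (h : Rl π σ a b) : Rl π⁻¹ σ b a :=
  let ⟨k, e⟩ := h
  ⟨fs σ k, fun i => by
    rw [← π.apply_symm_apply i, e, fs_add, fs_fs, add_assoc, F.add_self, add_zero]; simp⟩

theorem Rl.mul (h : Rl π σ a b) (h' : Rl π σ a' b') : Rl π σ (a * a') (b * b') :=
  let ⟨k, e⟩ := h; let ⟨k', e'⟩ := h'
  ⟨k + k', fun i => by rw [tt_mul, tt_mul, e, e', fs_add]; ring⟩

theorem Rl.refl (a : P2) : Rl 1 false a a := ⟨0, fun _ => (add_zero _).symm⟩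

theorem rl_zz (π : Perm (Fin 8)) (σ : Bool) (c d : F) : Rl π σ (zz c) (zz d) :=
  ⟨0, fun i => by rw [tt_zz, tt_zz, fs_zero, add_zero]⟩

theorem Rl.zl (h : Rl π σ a b) (c : F) : Rl π σ (a * zz c) b := by simpa [zz_zero] using h.mul (rl_zz π σ c 0)

theorem Rl.zr (h : Rl π σ a b) (c : F) : Rl π σ a (b * zz c) := by simpa [zz_zero] using h.mul (rl_zz π σ 0 c)

/-- the last coordinates do not matter -/
theorem rl_z {s t : F} : Rl π σ ⟨a.x, a.y, a.p, a.q, a.u, a.v, s⟩ ⟨b.x, b.y, b.p, b.q, b.u, b.v, t⟩ ↔ Rl π σ a b := by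
  simp only [Rl, tt_z]

theorem Rl.eq1 (h : Rl 1 false a b) : ∃ c, b = a * zz c := by
  obtain ⟨k, e⟩ := h
  exact ⟨_, by rw [← (tt_const (a := a⁻¹ * b) (c := k) fun i => by
    rw [tt_mul, tt_inv, show tt i b = _ from e i, ← add_assoc]; simp [fs]).2, mul_inv_cancel_left]⟩

/-- the image is unique modulo the centre -/
theorem Rl.eq (h : Rl π σ a b) (h' : Rl π σ a b') : ∃ c, b' = b * zz c :=
  Rl.eq1 (by simpa using h.symm.trans h')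

theorem Rl.one (h : Rl 1 σ a b) (i : Fin 8) : tt i b = fs σ (tt i a) := by
  obtain ⟨k, e⟩ := h
  have l : ∀ i, tt i ⟨fs σ a.x, fs σ a.y, fs σ (cond σ a.q a.p), fs σ (cond σ a.p a.q), fs σ (cond σ a.v a.u),
      fs σ (cond σ a.u a.v), 0⟩ = fs σ (tt i a) := fun i => by
    cases σ <;> fin_cases i <;> simp only [tt, fs, cond_true, cond_false, F.fr_add, F.fr_mul] <;>
      simp only [F.fr] <;> ring
  have := (tt_const (c := k) fun i => by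
    rw [tt_mul i _ b, l, show tt i b = _ from e i, ← add_assoc, F.add_self, zero_add]).1
  rw [show tt i b = _ from e i, this, add_zero]

theorem Rl.q0 (h : Rl π σ a b) (ha : a ∈ Q0) : b ∈ Q0 := by
  obtain ⟨k, e⟩ := h
  refine ((mem_Q00 k b.x b.y b.p b.q b.u b.v).1 fun i => ?_).2
  rw [tt_z, ← π.apply_symm_apply i, e]
  rcases mem_Q0.1 ha (π.symm i) with e | e <;> rw [e]
  exacts [Or.inl (by rw [fs_zero, zero_add]), Or.inr (by rw [fs_one, add_comm])]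

theorem Rl.ne (h : Rl π σ a b) (ha : a ≠ zz a.z) : b ≠ zz b.z := fun e => by
  obtain ⟨c, e'⟩ := (rl_zz π⁻¹ σ b.z 0).eq (e ▸ h.symm)
  exact ha (by rw [e', zz_mul]; rfl)

theorem Rl.fix_r {p : F} (hp : p ≠ 0) (h : Rl π false (rr p) (rr p)) : π 2 = 2 ∧ π 3 = 3 ∧ π 4 = 4 := by
  obtain ⟨c, e⟩ := h
  have k := (by decide +kernel : ∀ (p c : F) (a b : Fin 8), p ≠ 0 → a ≠ b → tt a (rr p) = fs false (tt 0 (rr p)) + c →
    tt b (rr p) = fs false (tt 1 (rr p)) + c → ∀ i j, tt j (rr p) = fs false (tt i (rr p)) + c →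
      i = 2 ∨ i = 3 ∨ i = 4 → j = i) p c _ _ hp (π.injective.ne (by decide)) (e 0) (e 1)
  exact ⟨k _ _ (e 2) (by decide), k _ _ (e 3) (by decide), k _ _ (e 4) (by decide)⟩

theorem perm_eq_one (h : ∀ a, Rl π false a a) : π = 1 := by
  obtain ⟨h2, h3, h4⟩ := (h _).fix_r one_ne_zero
  obtain ⟨c, e⟩ := h ⟨0, 1, 0, 0, 1, 0, 0⟩
  obtain ⟨d, e'⟩ := h ⟨1, 0, 0, 0, F.w, 0, 0⟩
  have hc := e 2
  have hd := e' 2
  rw [h2] at hc hd
  refine Equiv.ext fun i => ?_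
  have := (by decide +kernel : ∀ c d : F, tt 2 ⟨0, 1, 0, 0, 1, 0, 0⟩ = fs false (tt 2 ⟨0, 1, 0, 0, 1, 0, 0⟩) + c →
    tt 2 ⟨1, 0, 0, 0, F.w, 0, 0⟩ = fs false (tt 2 ⟨1, 0, 0, 0, F.w, 0, 0⟩) + d → ∀ i j : Fin 8,
    tt j ⟨0, 1, 0, 0, 1, 0, 0⟩ = fs false (tt i ⟨0, 1, 0, 0, 1, 0, 0⟩) + c →
    tt j ⟨1, 0, 0, 0, F.w, 0, 0⟩ = fs false (tt i ⟨1, 0, 0, 0, F.w, 0, 0⟩) + d →
    j = i ∨ (i = 2 ∨ i = 3 ∨ i = 4)) c d hc hd i _ (e i) (e' i)
  rcases this with k | rfl | rfl | rfl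
  exacts [k, h2, h3, h4]

end

variable {G : Type*} [Group G]

/-- `n` normalises `P` and centralises `z`; it has type `(π, σ)` -/
def Mv (ρ : P2 →* G) (n : G) (π : Perm (Fin 8)) (σ : Bool) : Prop :=
  (∀ c, n * ρ (zz c) * n⁻¹ = ρ (zz (fs σ c))) ∧ ∀ a, ∃ b, n * ρ a * n⁻¹ = ρ b ∧ Rl π σ a b

section
variable {ρ : P2 →* G} {n n' : G} {π π' : Perm (Fin 8)} {σ σ' : Bool}

theorem rcj (ρ : P2 →* G) (a b : P2) : ρ a * ρ b * (ρ a)⁻¹ = ρ (b * zz (bf a b)) := by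
  rw [← conj_eq, map_mul, map_mul, map_inv]

theorem z2 (ρ : P2 →* G) (c : F) : ρ (zz c) * ρ (zz c) = 1 := by
  rw [← map_mul, zz_mul, F.add_self]; exact map_one ρ

theorem pz (ρ : P2 →* G) (a : P2) (c : F) : Commute (ρ a) (ρ (zz c)) := Commute.map (zz_comm c a).symm ρ

theorem Mv.mul (h : Mv ρ n π σ) (h' : Mv ρ n' π' σ') : Mv ρ (n * n') (π * π') (xor σ σ') := by
  refine ⟨fun c => by rw [cj_mul, h'.1, h.1, fs_xor], fun u => ?_⟩
  obtain ⟨u', e1, e2⟩ := h'.2 u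
  obtain ⟨u'', e3, e4⟩ := h.2 u'
  exact ⟨u'', by rw [cj_mul, e1, e3], e2.trans e4⟩

theorem Mv.nor (h : Mv ρ n π σ) : n ∈ normalizer (ρ.range : Set G) :=
  have : Finite (ρ.range : Set G) := Set.finite_range ρ
  mem_normalizer_fintype (by rintro _ ⟨x, rfl⟩; obtain ⟨u, e, -⟩ := h.2 x; exact ⟨_, e.symm⟩)

theorem Mv.comm (h : Mv ρ n π σ) : Commute n (ρ (zz 1)) := comm_of_cj ((h.1 1).trans (by rw [fs_one]))

theorem Mv.rl (hρ : Function.Injective ρ) (h : Mv ρ n π σ) {a b : P2} (e : n * ρ a * n⁻¹ = ρ b) : Rl π σ a b := by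
  obtain ⟨b', e1, e2⟩ := h.2 a
  rwa [hρ (e.symm.trans e1)]

theorem Mv.inv (hρ : Function.Injective ρ) (h : Mv ρ n π σ) : Mv ρ n⁻¹ π⁻¹ σ := by
  refine ⟨fun c => by rw [← fs_fs σ c, ← h.1, fs_fs]; group, fun u => ?_⟩
  obtain ⟨u', e1⟩ := nor_cjA (inv_mem h.nor) ⟨u, rfl⟩
  exact ⟨u', e1.symm, (h.rl hρ (by rw [e1]; group)).symm⟩

theorem Mv.cj (hρ : Function.Injective ρ) (a : Mv ρ n' π' σ') (c : Mv ρ n π σ) :
    Mv ρ (n' * n * n'⁻¹) (π' * π * π'⁻¹) σ := by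
  have := (a.mul c).mul (a.inv hρ)
  rwa [show xor (xor σ' σ) σ' = σ by cases σ' <;> cases σ <;> rfl] at this

/-- the image of `ρ a` is the expected one modulo the centre -/
theorem Mv.to (h : Mv ρ n π σ) {a b : P2} (e : Rl π σ a b) : ∃ c, n * ρ a * n⁻¹ = ρ (b * zz c) := by
  obtain ⟨b', e1, e2⟩ := h.2 a
  obtain ⟨c, rfl⟩ := e.eq e2
  exact ⟨c, e1⟩

theorem mv_inn (ρ : P2 →* G) (a : P2) : Mv ρ (ρ a) 1 false :=
  ⟨fun c => cj_of_comm (pz ρ a c), fun u => ⟨_, rcj ρ a u, (Rl.refl u).zr _⟩⟩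

theorem mv_of_comm {d : G} (h : ∀ u, Commute d (ρ u)) : Mv ρ d 1 false :=
  ⟨fun _ => cj_of_comm (h _), fun u => ⟨u, cj_of_comm (h u), Rl.refl u⟩⟩

theorem Mv.uniq (hρ : Function.Injective ρ) (h : Mv ρ n π σ) (h' : Mv ρ n π' σ') : π = π' ∧ σ = σ' := by
  obtain rfl : σ = σ' := by
    have := hρ ((h.1 F.w).symm.trans (h'.1 F.w))
    revert this; cases σ <;> cases σ' <;> decide
  have h2 := (h.inv hρ).mul h'
  rw [inv_mul_cancel, Bool.xor_self] at h2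
  exact ⟨inv_mul_eq_one.1 (perm_eq_one fun a => h2.rl hρ (by simp)), rfl⟩

theorem Mv.cen (hρ : Function.Injective ρ) (a : Mv ρ n π σ) (c : Commute n (ρ (zz F.w))) : σ = false :=
  (by decide : ∀ σ, zz (fs σ F.w) = zz F.w → σ = false) σ (hρ ((a.1 F.w).symm.trans (cj_of_comm c)))

/-- it is enough to check generators -/
theorem mv_gen (h0 : ∀ c, n * ρ (zz c) * n⁻¹ = ρ (zz (fs σ c)))
    (h1 : ∀ c, ∀ a ∈ [x1 c, x5 c, rr c, ⟨0, 0, 0, c, 0, 0, 0⟩, ⟨0, 0, 0, 0, c, 0, 0⟩, ⟨0, 0, 0, 0, 0, c, 0⟩],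
      ∃ b, n * ρ a * n⁻¹ = ρ b ∧ Rl π σ a b) : Mv ρ n π σ := by
  have k {a a'} : (∃ b, n * ρ a * n⁻¹ = ρ b ∧ Rl π σ a b) → (∃ b, n * ρ a' * n⁻¹ = ρ b ∧ Rl π σ a' b) →
      ∃ b, n * ρ (a * a') * n⁻¹ = ρ b ∧ Rl π σ (a * a') b := fun ⟨b, e, f⟩ ⟨b', e', f'⟩ =>
    ⟨b * b', by rw [map_mul, map_mul, ← conj_mul, e, e'], f.mul f'⟩
  refine ⟨h0, fun a => ?_⟩
  rw [show a = x5 a.y * x1 a.x * rr a.p * ⟨0, 0, 0, a.q, 0, 0, 0⟩ * ⟨0, 0, 0, 0, a.u, 0, 0⟩ * ⟨0, 0, 0, 0, 0, a.v, 0⟩ *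
    zz a.z by simp [P2.mul_def, x1, x5, rr, zz]]
  exact k (k (k (k (k (k (h1 a.y _ (by simp)) (h1 a.x _ (by simp))) (h1 a.p _ (by simp))) (h1 a.q _ (by simp)))
    (h1 a.u _ (by simp))) (h1 a.v _ (by simp))) ⟨_, h0 _, rl_zz _ _ _ _⟩

/-- moving a noncentral element exactly -/
theorem mv_to {C : Subgroup G} (rc : ∀ a, ρ a ∈ C) (hn : n ∈ C) (m : Mv ρ n π σ) {a b : P2} (hb : b ≠ zz b.z)
    (e : Rl π σ a b) : ∃ k ∈ C, Mv ρ k π σ ∧ k * ρ a * k⁻¹ = ρ b := by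
  obtain ⟨c, e1⟩ := m.to e
  obtain ⟨l, e2⟩ := bf_surj hb c
  refine ⟨(ρ l)⁻¹ * n, mul_mem (inv_mem (rc l)) hn, by simpa using (mv_inn ρ l⁻¹).mul m, ?_⟩
  rw [cj_mul, e1, ← e2, ← rcj]; group

end

/-- the permutation induced by `n * s t * n⁻¹` -/
def pa : F → Perm (Fin 8)
  | F.o => 1
  | F.i => swap 1 2 * swap 3 4
  | F.w => swap 1 4 * swap 2 3
  | F.v => swap 1 3 * swap 2 4

/-- the permutation induced by `x0 t` -/
def pb : F → Perm (Fin 8)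
  | F.o => 1
  | F.i => swap 0 5 * swap 6 7
  | F.w => swap 0 7 * swap 5 6
  | F.v => swap 0 6 * swap 5 7

/-- interchanges `(p,q)` and `(u,v)` -/
def pj : Perm (Fin 8) := swap 0 1 * swap 2 5 * swap 3 6 * swap 4 7
/-- interchanges `p, q` and `u, v`; with the field automorphism it is the Frobenius map on all coordinates -/
def pk : Perm (Fin 8) := swap 3 4 * swap 6 7

/-- the extraspecial group of order `2 ^ 9` -/
def QQ (ρ : P2 →* G) (f : G) : Subgroup G := Q0.map ρ ⊔ zpowers f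

/-- the group `N(P) ∩ C(z)` -/
abbrev NN (ρ : P2 →* G) : Subgroup G := normalizer (ρ.range : Set G) ⊓ centralizer {ρ (zz 1)}

/-- the group `N(Q) ∩ N(D) ∩ C(z)` -/
abbrev HH (ρ : P2 →* G) (f : G) (D : Subgroup G) : Subgroup G :=
  (normalizer (QQ ρ f : Set G) ⊓ normalizer (D : Set G)) ⊓ centralizer {ρ (zz 1)}

/-- The local configuration: `P = ρ.range`, `W = ω.range`, `W' = η.range`, `z = ρ (zz 1)`, `z' = ρ (zz ω)`. -/
structure St4 (A : Subgroup G) (ρ : P2 →* G) (ω η : WW →* G) (D : Subgroup G) (h n f y j k : G) : Prop where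
  rinj : Function.Injective ρ
  winj : Function.Injective ω
  jnj : Function.Injective η
  rw : ∀ x p q z, ρ ⟨x, 0, p, q, 0, 0, z⟩ = ω ⟨p, q, 0, x, z⟩
  rη : ∀ x p q z, ρ ⟨x, 0, 0, 0, p, q, z⟩ = η ⟨p, q, 0, x, z⟩
  ww : ∀ w w', Commute (ω w) (η w')
  odd : ∀ d ∈ D, Odd (orderOf d)
  rc : ∀ a, ρ a ∈ centralizer (D : Set G)
  wc : ∀ w, ω w ∈ centralizer (D : Set G)
  AD : A ≤ centralizer (D : Set G)
  vA : ∀ w, η w ∈ A
  hA : h ∈ A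
  nA : n ∈ A
  fc : f ∈ centralizer (D : Set G)
  yc : y ∈ centralizer (D : Set G)
  jc : j ∈ centralizer (D : Set G)
  kc : k ∈ centralizer (D : Set G)
  mv : ∀ x ∈ normalizer (ρ.range : Set G), Commute x (ρ (zz 1)) → ∃ π σ, Perm.sign π = 1 ∧ Mv ρ x π σ
  ker : ∀ x, Mv ρ x 1 false → ∃ a, ∃ d ∈ D, x = ρ a * d
  a8 : ∀ π, Perm.sign π = 1 → ∃ x ∈ centralizer (D : Set G), Mv ρ x π false
  amv : ∀ t, Mv ρ (ω ⟨0, 0, t, 0, 0⟩) (pa t) false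
  bmv : ∀ t, Mv ρ (η ⟨0, 0, t, 0, 0⟩) (pb t) false
  ya : ∀ c t, ∃ x z, ρ (x5 c) * ω ⟨0, 0, t, 0, 0⟩ * (ρ (x5 c))⁻¹ = ω ⟨c * t * t, c * t, t, x, z⟩
  yb : ∀ c t, ∃ x z, ρ (x5 c) * η ⟨0, 0, t, 0, 0⟩ * (ρ (x5 c))⁻¹ = η ⟨c * t * t, c * t, t, x, z⟩
  hP : ∀ a, h * ρ a * h⁻¹ = ρ ⟨F.v * a.x, F.v * a.y, a.p, F.w * a.q, F.v * a.u, F.v * a.v, F.w * a.z⟩
  hW : h ∈ normalizer (ω.range : Set G)
  nsq : n * n = 1
  nω : ∀ p q t x z, n * ω ⟨p, q, t, x, z⟩ * n⁻¹ = ω ⟨p, t, q, z + q * q * t, x + q * t * t⟩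
  nη : ∀ p q t x z, n * η ⟨p, q, t, x, z⟩ * n⁻¹ = η ⟨p, t, q, z + q * q * t, x + q * t * t⟩
  kW : k ∈ normalizer (ω.range : Set G)
  kmv : Mv ρ k pk false
  nww : normalizer (ω.range : Set G) ≤ normalizer (η.range : Set G)
  jmv : Mv ρ j pj false
  jW : cj j η.range = ω.range
  fsq : f * f = 1
  fmv : Mv ρ f 1 true
  fW : f ∈ normalizer (ω.range : Set G)
  fy : f = y * ρ (x5 1) * y⁻¹
  yW : y ∈ normalizer (ω.range : Set G)
  yz : Commute y (ρ (zz 1))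
  yz' : y * ρ (zz F.w) * y⁻¹ = ρ (x1 1)
  yQ : y ∈ normalizer (QQ ρ f : Set G)
  nw : ∀ x ∈ normalizer (ω.range : Set G), Commute x (ρ (zz 1)) → Commute x (ρ (zz F.w)) →
    x ∈ normalizer (ρ.range : Set G)
  rD : IsD A (ρ (rr 1))
  nD : ¬ IsD A (ρ (zz 1))
  eD : ¬ IsD A (ρ e0)
  cr : ∀ c, Commute c (ρ (rr 1)) → Commute c (ρ (zz 1)) → c ∈ normalizer (ρ.range : Set G)
  ez : ∀ c, Commute c (ρ (rr 1)) → c * ρ e0 * c⁻¹ ≠ ρ (zz 1)
  oddD : ∀ O : Subgroup G, Odd (Nat.card O) → O ≤ centralizer {ρ (zz 1)} →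
    ρ.range ≤ normalizer (O : Set G) → O ≤ D
  ns : ¬ Group.IsSolvable A

/-- A Sylow 2-subgroup `T` of `G` and the fusion of its involutions. -/
structure St5 (A : Subgroup G) (ρ : P2 →* G) (ω η : WW →* G) (D : Subgroup G) (h n f y j k : G) (T : Subgroup G) :
    Prop extends St4 A ρ ω η D h n f y j k where
  two : IsPGroup 2 T
  syl : ¬ 2 ∣ T.index
  tN : T ≤ NN ρ
  pT : ρ.range ≤ T
  fT : f ∈ T
  uf : ∀ c, Commute c (ρ (zz 1)) → c * ρ (rr 1) * c⁻¹ ∈ T → c ∈ normalizer (QQ ρ f : Set G)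
  ze : ¬ IsConj (ρ (zz 1)) (ρ e0)

end Cfsg.Agent.G4S
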